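import Groth.Agent.Lib.Misc6.AffinePushout
import Groth.Agent.Lib.FlatCx.FlatSES
import Mathlib.LinearAlgebra.TensorProduct.Prod
import Mathlib.RingTheory.TensorProduct.Maps

/-!
# Flat base change of a fibre square of rings
-/

universe u

open scoped TensorProduct

namespace GrothLib.Pushout6

variable {R P A B C : Type u} [CommRing R] [CommRing P] [CommRing A] [CommRing B] [CommRing C]
  [Algebra R P] [Algebra R A] [Algebra R B] [Algebra R C]
  (f : P →ₐ[R] B) (g : P →ₐ[R] A) (q : B →ₐ[R] C) (p : A →ₐ[R] C)

/-- The inclusion of the fibre product. -/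
def incl : P →ₗ[R] B × A := f.toLinearMap.prod g.toLinearMap

/-- The difference map. -/
def diff : B × A →ₗ[R] C := q.toLinearMap.coprod (-p.toLinearMap)

variable {f g q p}

theorem incl_injective (h : Misc6.FibreSquare f.toRingHom g.toRingHom q.toRingHom p.toRingHom) :
    Function.Injective (incl f g) :=
  (injective_iff_map_eq_zero (incl f g)).mpr fun x hx =>
    h.inj x (congrArg Prod.fst hx) (congrArg Prod.snd hx)

theorem diff_surjective (h : Misc6.FibreSquare f.toRingHom g.toRingHom q.toRingHom p.toRingHom) :
    Function.Surjective (diff q p) := fun c => by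
  obtain ⟨a, ha⟩ := h.surj (-c)
  exact ⟨(0, a), by simp [diff, show p a = -c from ha]⟩

theorem exact_incl_diff (h : Misc6.FibreSquare f.toRingHom g.toRingHom q.toRingHom p.toRingHom) :
    Function.Exact (incl f g) (diff q p) := by
  rintro ⟨b, a⟩
  constructor
  · intro hba
    have hba' : q b + -p a = 0 := hba
    obtain ⟨x, hx₁, hx₂⟩ := h.ex b a (eq_of_sub_eq_zero (by rw [sub_eq_add_neg]; exact hba'))
    exact ⟨x, Prod.ext hx₁ hx₂⟩
  · rintro ⟨x, hx⟩
    rw [← hx]
    show q (f x) + -p (g x) = 0
    rw [show q (f x) = p (g x) from congr($(h.w) x), add_neg_cancel]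

theorem flat_of_fibreSquare (h : Misc6.FibreSquare f.toRingHom g.toRingHom q.toRingHom p.toRingHom)
    [Module.Flat R A] [Module.Flat R B] [Module.Flat R C] : Module.Flat R P :=
  haveI : Module.Flat R (B × A) := FlatCx.flat_of_exact_mid (g := LinearMap.inl R B A)
    (f := LinearMap.snd R B A) LinearMap.inl_injective LinearMap.snd_surjective Function.Exact.inl_snd
  FlatCx.flat_of_exact_left (incl_injective h) (diff_surjective h) (exact_incl_diff h)

theorem fibreSquare_tensor (h : Misc6.FibreSquare f.toRingHom g.toRingHom q.toRingHom p.toRingHom)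
    (R' : Type u) [CommRing R'] [Algebra R R'] (hflat : Module.Flat R R' ∨ Module.Flat R C) :
    Misc6.FibreSquare (Algebra.TensorProduct.map f (AlgHom.id R R')).toRingHom
      (Algebra.TensorProduct.map g (AlgHom.id R R')).toRingHom
      (Algebra.TensorProduct.map q (AlgHom.id R R')).toRingHom
      (Algebra.TensorProduct.map p (AlgHom.id R R')).toRingHom := by
  let e := TensorProduct.prodLeft R R B A R'
  have hincl : ∀ t, e ((incl f g).rTensor R' t) =
      (Algebra.TensorProduct.map f (AlgHom.id R R') t, Algebra.TensorProduct.map g (AlgHom.id R R') t) := by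
    intro t
    induction t with
    | zero => simp; rfl
    | tmul x r => simp [incl, e]
    | add x y hx hy => simp only [map_add, hx, hy, Prod.mk_add_mk]
  have hdiff : ∀ t, (diff q p).rTensor R' t =
      Algebra.TensorProduct.map q (AlgHom.id R R') (e t).1 - Algebra.TensorProduct.map p (AlgHom.id R R') (e t).2 := by
    intro t
    induction t with
    | zero => simp
    | tmul x r =>
      obtain ⟨b, a⟩ := x
      simp [diff, e, TensorProduct.add_tmul, TensorProduct.neg_tmul, sub_eq_add_neg]
    | add x y hx hy => rw [map_add, hx, hy, map_add, Prod.fst_add, Prod.snd_add, map_add, map_add]; abel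
  have hinj : Function.Injective ((incl f g).rTensor R') := by
    rcases hflat with hR | hC
    · exact Module.Flat.rTensor_preserves_injective_linearMap _ (incl_injective h)
    · exact FlatCx.rTensor_injective_of_flat (incl_injective h) (diff_surjective h) (exact_incl_diff h) R'
  refine ⟨?_, fun x hx₁ hx₂ => ?_, fun b a hba => ?_, ?_⟩
  · refine congrArg AlgHom.toRingHom (?_ : (Algebra.TensorProduct.map q (AlgHom.id R R')).comp
      (Algebra.TensorProduct.map f (AlgHom.id R R')) = (Algebra.TensorProduct.map p (AlgHom.id R R')).comp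
      (Algebra.TensorProduct.map g (AlgHom.id R R')))
    rw [← Algebra.TensorProduct.map_comp, ← Algebra.TensorProduct.map_comp,
      show q.comp f = p.comp g from AlgHom.ext fun x => congr($(h.w) x)]
  · refine hinj ?_
    apply e.injective
    rw [hincl, map_zero, map_zero]
    exact Prod.ext hx₁ hx₂
  · obtain ⟨x, hx⟩ := (rTensor_exact R' (exact_incl_diff h) (diff_surjective h) (e.symm (b, a))).mp (by
      rw [hdiff, LinearEquiv.apply_symm_apply]
      exact sub_eq_zero.mpr hba)
    have hx' := congrArg e hx
    rw [hincl, LinearEquiv.apply_symm_apply] at hx'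
    exact ⟨x, congrArg Prod.fst hx', congrArg Prod.snd hx'⟩
  · exact TensorProduct.map_surjective h.surj Function.surjective_id

end GrothLib.Pushout6
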