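import Groth.Agent.Lib.Pushout6.LocalCrit
import Groth.Agent.Lib.Pushout6.Tensor
import Groth.Agent.Lib.Thickening.Morphisms
import Mathlib.AlgebraicGeometry.Morphisms.Flat
import Mathlib.AlgebraicGeometry.PullbackCarrier

/-!
# Base change of pushouts
-/

universe u

open CategoryTheory Limits AlgebraicGeometry Opposite TopologicalSpace
open scoped TensorProduct

namespace GrothLib.Pushout6

noncomputable section

theorem exists_chart_le {X Y Z : Scheme.{u}} {i : Z ⟶ X} {j : Z ⟶ Y} [IsClosedImmersion i] (O : (obj i j).Opens)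
    {x : obj i j} (hx : x ∈ O) :
    ∃ c : Chart i j, x ∈ Set.range (chartι c) ∧ Set.range (chartι c) ⊆ (O : Set (obj i j)) := by
  obtain ⟨c, w, rfl⟩ := exists_eq_chartι x
  obtain ⟨_, ⟨_, ⟨s, rfl⟩, rfl⟩, hws, hs⟩ := PrimeSpectrum.isBasis_basic_opens.exists_subset_of_mem_open
    (show w ∈ ((chartι c ⁻¹ᵁ O : c.W.Opens) : Set c.W) from hx) (chartι c ⁻¹ᵁ O).2
  obtain ⟨v, hv⟩ := (Chart.range_φ_basic (c.basic_le s) s rfl rfl).superset hws
  refine ⟨c.basic s, ⟨v, (congr($(φ_chartι (c.basic_le s)) v)).symm.trans (congrArg (chartι c) hv)⟩, ?_⟩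
  rintro _ ⟨y, rfl⟩
  rw [← φ_chartι (c.basic_le s)]
  exact hs ((Chart.range_φ_basic (c.basic_le s) s rfl rfl).subset ⟨y, rfl⟩)

/-- An affine piece of a base change. -/
theorem exists_piece {M M' S S' : Scheme.{u}} {rM : M ⟶ S} {g : S' ⟶ S} {πM : M' ⟶ M} {sM : M' ⟶ S'}
    (hM : IsPullback πM sM rM g) {T : S.Opens} (hT : IsAffineOpen T) {T' : S'.Opens} (hT' : IsAffineOpen T')
    (hTT' : T' ≤ g ⁻¹ᵁ T) (M₀ : Type u) [CommRing M₀] [Algebra Γ(S, T) M₀] [Algebra Γ(S, T) Γ(S', T')]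
    (halg : algebraMap Γ(S, T) Γ(S', T') = (g.appLE T T' hTT').hom)
    (m : Spec (CommRingCat.of M₀) ⟶ M) [IsOpenImmersion m]
    (hm : m ≫ rM = Spec.map (CommRingCat.ofHom (algebraMap Γ(S, T) M₀)) ≫ hT.fromSpec) :
    ∃ w : Spec (CommRingCat.of (M₀ ⊗[Γ(S, T)] Γ(S', T'))) ⟶ M', IsOpenImmersion w ∧
      w ≫ πM = Spec.map (CommRingCat.ofHom Algebra.TensorProduct.includeLeftRingHom) ≫ m ∧
      w ≫ sM = Spec.map (CommRingCat.ofHom
        (Algebra.TensorProduct.includeRight (R := Γ(S, T)) (A := M₀) (B := Γ(S', T'))).toRingHom) ≫ hT'.fromSpec ∧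
      Set.range w = πM ⁻¹' Set.range m ∩ sM ⁻¹' (T' : Set S') := by
  have hτ : Spec.map (CommRingCat.ofHom (algebraMap Γ(S, T) Γ(S', T'))) ≫ hT.fromSpec = hT'.fromSpec ≫ g := by
    rw [halg]
    exact IsAffineOpen.SpecMap_appLE_fromSpec g hT hT' hTT'
  let μ := pullback.map (Spec.map (CommRingCat.ofHom (algebraMap Γ(S, T) M₀)))
    (Spec.map (CommRingCat.ofHom (algebraMap Γ(S, T) Γ(S', T')))) rM g m hT'.fromSpec hT.fromSpec hm.symm hτ
  have hμ₁ : μ ≫ pullback.fst rM g = pullback.fst _ _ ≫ m := pullback.lift_fst _ _ _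
  have hμ₂ : μ ≫ pullback.snd rM g = pullback.snd _ _ ≫ hT'.fromSpec := pullback.lift_snd _ _ _
  refine ⟨(pullbackSpecIso Γ(S, T) M₀ Γ(S', T')).inv ≫ μ ≫ hM.isoPullback.inv, inferInstance, ?_, ?_, ?_⟩
  · rw [Category.assoc, Category.assoc, IsPullback.isoPullback_inv_fst, hμ₁, pullbackSpecIso_inv_fst_assoc]
  · rw [Category.assoc, Category.assoc, IsPullback.isoPullback_inv_snd, hμ₂, pullbackSpecIso_inv_snd_assoc]
    rfl
  · have hsurj := (pullbackSpecIso Γ(S, T) M₀ Γ(S', T')).inv.surjective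
    rw [Scheme.Hom.comp_base, TopCat.coe_comp, hsurj.range_comp, Scheme.Hom.comp_base, TopCat.coe_comp,
      Set.range_comp, Scheme.Pullback.range_map, hT'.range_fromSpec]
    ext x
    constructor
    · rintro ⟨y, ⟨h₁, h₂⟩, rfl⟩
      refine ⟨?_, ?_⟩
      · show πM (hM.isoPullback.inv y) ∈ Set.range m
        rwa [← Scheme.Hom.comp_apply, IsPullback.isoPullback_inv_fst]
      · show sM (hM.isoPullback.inv y) ∈ T'
        rwa [← Scheme.Hom.comp_apply, IsPullback.isoPullback_inv_snd]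
    · rintro ⟨h₁, h₂⟩
      refine ⟨hM.isoPullback.hom x, ⟨?_, ?_⟩, by rw [← Scheme.Hom.comp_apply, Iso.hom_inv_id]; rfl⟩
      · show pullback.fst rM g (hM.isoPullback.hom x) ∈ Set.range m
        rwa [← Scheme.Hom.comp_apply, IsPullback.isoPullback_hom_fst]
      · show pullback.snd rM g (hM.isoPullback.hom x) ∈ T'
        rwa [← Scheme.Hom.comp_apply, IsPullback.isoPullback_hom_snd]

/-- Two pieces are compatible with a map of algebras. -/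
theorem piece_comp {M N M' N' S S' : Scheme.{u}} {rN : N ⟶ S} {g : S' ⟶ S} {πN : N' ⟶ N} {sN : N' ⟶ S'}
    (hN : IsPullback πN sN rN g) {πM : M' ⟶ M} {sM : M' ⟶ S'} (ν : M ⟶ N) (ν' : M' ⟶ N')
    (h₁ : ν' ≫ πN = πM ≫ ν) (h₂ : ν' ≫ sN = sM)
    {R R' M₀ N₀ : Type u} [CommRing R] [CommRing R'] [CommRing M₀] [CommRing N₀] [Algebra R R'] [Algebra R M₀]
    [Algebra R N₀] (φ : N₀ →ₐ[R] M₀)
    {mM : Spec (CommRingCat.of M₀) ⟶ M} {mN : Spec (CommRingCat.of N₀) ⟶ N} {t : Spec (CommRingCat.of R') ⟶ S'}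
    (hν : mM ≫ ν = Spec.map (CommRingCat.ofHom φ.toRingHom) ≫ mN)
    {wM : Spec (CommRingCat.of (M₀ ⊗[R] R')) ⟶ M'} {wN : Spec (CommRingCat.of (N₀ ⊗[R] R')) ⟶ N'}
    (hM₁ : wM ≫ πM = Spec.map (CommRingCat.ofHom Algebra.TensorProduct.includeLeftRingHom) ≫ mM)
    (hN₁ : wN ≫ πN = Spec.map (CommRingCat.ofHom Algebra.TensorProduct.includeLeftRingHom) ≫ mN)
    (hM₂ : wM ≫ sM = Spec.map (CommRingCat.ofHom
        (Algebra.TensorProduct.includeRight (R := R) (A := M₀) (B := R')).toRingHom) ≫ t)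
    (hN₂ : wN ≫ sN = Spec.map (CommRingCat.ofHom
        (Algebra.TensorProduct.includeRight (R := R) (A := N₀) (B := R')).toRingHom) ≫ t) :
    wM ≫ ν' = Spec.map (CommRingCat.ofHom (Algebra.TensorProduct.map φ (AlgHom.id R R')).toRingHom) ≫ wN := by
  refine hN.hom_ext ?_ ?_
  · rw [Category.assoc, h₁, reassoc_of% hM₁, hν, Category.assoc, hN₁, ← Category.assoc, ← Category.assoc,
      ← Spec.map_comp, ← Spec.map_comp]
    congr 2
  · rw [Category.assoc, h₂, hM₂, Category.assoc, hN₂, ← Category.assoc, ← Spec.map_comp]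
    congr 2
    ext t
    exact ((Algebra.TensorProduct.map_tmul φ (AlgHom.id R R') 1 t).trans (by rw [map_one]; rfl)).symm


/-- Ranges of pieces are compatible. -/
theorem piece_range {M N M' N' S' : Scheme.{u}} {πN : N' ⟶ N} {sN : N' ⟶ S'} {πM : M' ⟶ M} {sM : M' ⟶ S'}
    (ν : M ⟶ N) (ν' : M' ⟶ N') (h₁ : ν' ≫ πN = πM ≫ ν) (h₂ : ν' ≫ sN = sM)
    {EM : Set M} {EN : Set N} (hE : ν ⁻¹' EN = EM) (T' : Set S')
    {RM : Set M'} {RN : Set N'} (hRM : RM = πM ⁻¹' EM ∩ sM ⁻¹' T') (hRN : RN = πN ⁻¹' EN ∩ sN ⁻¹' T') :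
    ν' ⁻¹' RN = RM := by
  subst hRM hRN hE h₂
  ext z
  show (πN (ν' z) ∈ EN ∧ sN (ν' z) ∈ T') ↔ (ν (πM z) ∈ EN ∧ sN (ν' z) ∈ T')
  rw [show πN (ν' z) = ν (πM z) from congr($h₁ z)]

variable {X Y Z P S S' X' Y' Z' P' : Scheme.{u}} {i : Z ⟶ X} {j : Z ⟶ Y} [IsClosedImmersion i]
  {a : X ⟶ P} {b : Y ⟶ P} (r : P ⟶ S) (g : S' ⟶ S)
  {i' : Z' ⟶ X'} {j' : Z' ⟶ Y'} {a' : X' ⟶ P'} {b' : Y' ⟶ P'}
  {πX : X' ⟶ X} {πY : Y' ⟶ Y} {πZ : Z' ⟶ Z} {πP : P' ⟶ P} {sP : P' ⟶ S'}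

theorem preimage_range_left (hC : Covered i j) (hP : IsPushout i j a b) (c : Chart i j) :
    a ⁻¹' Set.range (chartι c ≫ (objIso hC hP).hom) = (c.U : Set X) := by
  ext x
  have e : a x = (objIso hC hP).hom (inl hC x) := (congr($(inl_objIso hC hP) x)).symm
  rw [← preimage_inl hC c]
  constructor
  · rintro ⟨w, hw⟩
    exact ⟨w, (objIso hC hP).hom.isOpenEmbedding.injective (hw.trans e)⟩
  · rintro ⟨w, hw⟩
    exact ⟨w, (congrArg (objIso hC hP).hom hw).trans e.symm⟩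

theorem preimage_range_right (hC : Covered i j) (hP : IsPushout i j a b) (c : Chart i j) :
    b ⁻¹' Set.range (chartι c ≫ (objIso hC hP).hom) = (c.V : Set Y) := by
  ext y
  have e : b y = (objIso hC hP).hom (inr hC y) := (congr($(inr_objIso hC hP) y)).symm
  rw [← preimage_inr hC c]
  constructor
  · rintro ⟨w, hw⟩
    exact ⟨w, (objIso hC hP).hom.isOpenEmbedding.injective (hw.trans e)⟩
  · rintro ⟨w, hw⟩
    exact ⟨w, (congrArg (objIso hC hP).hom hw).trans e.symm⟩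

theorem flat_appLE_or (hflat : Flat g ∨ Flat (i ≫ a ≫ r)) {T : S.Opens} (hT : IsAffineOpen T)
    {T' : S'.Opens} (hT' : IsAffineOpen T') (hTT' : T' ≤ g ⁻¹ᵁ T) {C : CommRingCat.{u}} (ρ : Γ(S, T) ⟶ C)
    (m : Spec C ⟶ Z) [IsOpenImmersion m] (hm : m ≫ i ≫ a ≫ r = Spec.map ρ ≫ hT.fromSpec) :
    (g.appLE T T' hTT').hom.Flat ∨ ρ.hom.Flat := by
  rcases hflat with h | h
  · exact .inl ((HasRingHomProperty.iff_appLE (P := @Flat)).mp h ⟨T, hT⟩ ⟨T', hT'⟩ hTT')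
  · refine .inr ((HasRingHomProperty.Spec_iff (P := @Flat)).mp ?_)
    haveI : Flat (Spec.map ρ ≫ hT.fromSpec) := by
      rw [← hm]
      infer_instance
    exact GrothLib.Thickening.of_comp_mono @Flat _ hT.fromSpec inferInstance

/-- Assembling local data from an affine chart given by algebras. -/
theorem localData_of (hP' : IsPullback πP sP r g) (hX' : IsPullback πX a' a πP) (hY' : IsPullback πY b' b πP)
    (hZ' : IsPullback πZ i' i πX) (hj₁ : j' ≫ πY = πZ ≫ j) (hj₂ : i' ≫ a' = j' ≫ b')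
    {T : S.Opens} (hT : IsAffineOpen T) {T' : S'.Opens} (hT' : IsAffineOpen T') (hTT' : T' ≤ g ⁻¹ᵁ T)
    [Algebra Γ(S, T) Γ(S', T')] (halg : algebraMap Γ(S, T) Γ(S', T') = (g.appLE T T' hTT').hom)
    {P₀ A₀ B₀ C₀ : Type u} [CommRing P₀] [CommRing A₀] [CommRing B₀] [CommRing C₀]
    [Algebra Γ(S, T) P₀] [Algebra Γ(S, T) A₀] [Algebra Γ(S, T) B₀] [Algebra Γ(S, T) C₀]
    (fA : P₀ →ₐ[Γ(S, T)] A₀) (fB : P₀ →ₐ[Γ(S, T)] B₀) (fq : B₀ →ₐ[Γ(S, T)] C₀) (fp : A₀ →ₐ[Γ(S, T)] C₀)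
    (hsq : Misc6.FibreSquare fB.toRingHom fA.toRingHom fq.toRingHom fp.toRingHom)
    (hflat : Module.Flat Γ(S, T) Γ(S', T') ∨ Module.Flat Γ(S, T) C₀)
    (m : Spec (CommRingCat.of P₀) ⟶ P) [IsOpenImmersion m]
    (mA : Spec (CommRingCat.of A₀) ⟶ X) [IsOpenImmersion mA]
    (mB : Spec (CommRingCat.of B₀) ⟶ Y) [IsOpenImmersion mB]
    (mC : Spec (CommRingCat.of C₀) ⟶ Z) [IsOpenImmersion mC]
    (hm : m ≫ r = Spec.map (CommRingCat.ofHom (algebraMap Γ(S, T) P₀)) ≫ hT.fromSpec)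
    (hmA : mA ≫ a = Spec.map (CommRingCat.ofHom fA.toRingHom) ≫ m)
    (hmB : mB ≫ b = Spec.map (CommRingCat.ofHom fB.toRingHom) ≫ m)
    (hmC : mC ≫ i = Spec.map (CommRingCat.ofHom fp.toRingHom) ≫ mA)
    (hmCj : mC ≫ j = Spec.map (CommRingCat.ofHom fq.toRingHom) ≫ mB)
    (hrA : a ⁻¹' Set.range m = Set.range mA) (hrB : b ⁻¹' Set.range m = Set.range mB)
    (hrC : i ⁻¹' Set.range mA = Set.range mC)
    (x : P') (hx : πP x ∈ Set.range m) (hx' : sP x ∈ T') : Nonempty (LocalData i' j' a' b' x) := by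
  have hcomp : ∀ {Q₀ : Type u} [CommRing Q₀] [Algebra Γ(S, T) Q₀] {N₀ : Type u} [CommRing N₀]
      [Algebra Γ(S, T) N₀] (φ : N₀ →ₐ[Γ(S, T)] Q₀),
      CommRingCat.ofHom (algebraMap Γ(S, T) N₀) ≫ CommRingCat.ofHom φ.toRingHom =
        CommRingCat.ofHom (algebraMap Γ(S, T) Q₀) := fun φ => CommRingCat.hom_ext φ.comp_algebraMap
  have hA : mA ≫ a ≫ r = Spec.map (CommRingCat.ofHom (algebraMap Γ(S, T) A₀)) ≫ hT.fromSpec := by
    rw [reassoc_of% hmA, hm, ← Category.assoc, ← Spec.map_comp, hcomp]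
  have hB : mB ≫ b ≫ r = Spec.map (CommRingCat.ofHom (algebraMap Γ(S, T) B₀)) ≫ hT.fromSpec := by
    rw [reassoc_of% hmB, hm, ← Category.assoc, ← Spec.map_comp, hcomp]
  have hC : mC ≫ i ≫ a ≫ r = Spec.map (CommRingCat.ofHom (algebraMap Γ(S, T) C₀)) ≫ hT.fromSpec := by
    rw [reassoc_of% hmC, hA, ← Category.assoc, ← Spec.map_comp, hcomp]
  have hj₂' : j' ≫ b' ≫ sP = i' ≫ a' ≫ sP := by rw [← Category.assoc, ← hj₂, Category.assoc]
  obtain ⟨w, hwo, hw₁, hw₂, hwr⟩ := exists_piece hP' hT hT' hTT' P₀ halg m hm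
  obtain ⟨u, huo, hu₁, hu₂, hur⟩ := exists_piece (hX'.paste_vert hP') hT hT' hTT' A₀ halg mA hA
  obtain ⟨v, hvo, hv₁, hv₂, hvr⟩ := exists_piece (hY'.paste_vert hP') hT hT' hTT' B₀ halg mB hB
  obtain ⟨z, hzo, hz₁, hz₂, hzr⟩ := exists_piece (hZ'.paste_vert (hX'.paste_vert hP')) hT hT' hTT' C₀ halg mC hC
  exact ⟨{
    P₀ := CommRingCat.of (P₀ ⊗[Γ(S, T)] Γ(S', T'))
    B₀ := CommRingCat.of (B₀ ⊗[Γ(S, T)] Γ(S', T'))
    A₀ := CommRingCat.of (A₀ ⊗[Γ(S, T)] Γ(S', T'))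
    C₀ := CommRingCat.of (C₀ ⊗[Γ(S, T)] Γ(S', T'))
    f₀ := CommRingCat.ofHom (Algebra.TensorProduct.map fB (AlgHom.id Γ(S, T) Γ(S', T'))).toRingHom
    g₀ := CommRingCat.ofHom (Algebra.TensorProduct.map fA (AlgHom.id Γ(S, T) Γ(S', T'))).toRingHom
    q₀ := CommRingCat.ofHom (Algebra.TensorProduct.map fq (AlgHom.id Γ(S, T) Γ(S', T'))).toRingHom
    p₀ := CommRingCat.ofHom (Algebra.TensorProduct.map fp (AlgHom.id Γ(S, T) Γ(S', T'))).toRingHom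
    sq := fibreSquare_tensor hsq Γ(S', T') hflat
    u := u, v := v, z := z, w := w
    openU := huo, openV := hvo, openZ := hzo, openW := hwo
    ha := piece_comp hP' a a' hX'.w.symm rfl fA hmA hu₁ hw₁ hu₂ hw₂
    hb := piece_comp hP' b b' hY'.w.symm rfl fB hmB hv₁ hw₁ hv₂ hw₂
    hi := piece_comp (hX'.paste_vert hP') i i' hZ'.w.symm rfl fp hmC hz₁ hu₁ hz₂ hu₂
    hj := piece_comp (hY'.paste_vert hP') j j' hj₁ hj₂' fq hmCj hz₁ hv₁ hz₂ hv₂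
    hu := piece_range a a' hX'.w.symm rfl hrA _ hur hwr
    hv := piece_range b b' hY'.w.symm rfl hrB _ hvr hwr
    hz := piece_range i i' hZ'.w.symm rfl hrC _ hzr hur
    hx := hwr ▸ ⟨hx, hx'⟩ }⟩

theorem nonempty_localData (hC : Covered i j) (hP : IsPushout i j a b) (hflat : Flat g ∨ Flat (i ≫ a ≫ r))
    (hP' : IsPullback πP sP r g) (hX' : IsPullback πX a' a πP) (hY' : IsPullback πY b' b πP)
    (hZ' : IsPullback πZ i' i πX) (hj₁ : j' ≫ πY = πZ ≫ j) (hj₂ : i' ≫ a' = j' ≫ b') (x : P') :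
    Nonempty (LocalData i' j' a' b' x) := by
  obtain ⟨_, ⟨T, hT, rfl⟩, hxT, -⟩ :=
    S.isBasis_affineOpens.exists_subset_of_mem_open (Set.mem_univ (r (πP x))) isOpen_univ
  have hgx : g (sP x) = r (πP x) := (congr($(hP'.w) x)).symm
  obtain ⟨_, ⟨T', hT', rfl⟩, hxT', hTT'⟩ := S'.isBasis_affineOpens.exists_subset_of_mem_open
    (show sP x ∈ ((g ⁻¹ᵁ T : S'.Opens) : Set S') from (show g (sP x) ∈ T from hgx ▸ hxT)) (g ⁻¹ᵁ T).2
  let e := objIso hC hP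
  obtain ⟨y, hy⟩ := e.hom.surjective (πP x)
  obtain ⟨c, hxc, hcT⟩ := exists_chart_le ((e.hom ≫ r) ⁻¹ᵁ T) (x := y) (by
    show r (e.hom y) ∈ T
    rw [hy]
    exact hxT)
  let m : c.W ⟶ P := chartι c ≫ e.hom
  obtain ⟨ρ, hρ⟩ := Spec.map_surjective (IsOpenImmersion.lift hT.fromSpec (m ≫ r) (by
    rw [hT.range_fromSpec]
    rintro _ ⟨w, rfl⟩
    exact hcT ⟨w, rfl⟩))
  have hm : m ≫ r = Spec.map ρ ≫ hT.fromSpec := by rw [hρ, IsOpenImmersion.lift_fac]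
  let σ := g.appLE T T' hTT'
  let ρA := ρ ≫ c.g
  let ρB := ρ ≫ c.f
  let ρC := ρA ≫ c.p
  letI := σ.hom.toAlgebra
  letI := ρ.hom.toAlgebra
  letI := ρA.hom.toAlgebra
  letI := ρB.hom.toAlgebra
  letI := ρC.hom.toAlgebra
  have hmA : c.hU.fromSpec ≫ a = Spec.map c.g ≫ m := by
    rw [← inl_objIso hC hP, ← Category.assoc, fromSpec_inl, Category.assoc]
    rfl
  have hmB : c.hV.fromSpec ≫ b = Spec.map c.f ≫ m := by
    rw [← inr_objIso hC hP, ← Category.assoc, fromSpec_inr, Category.assoc]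
    rfl
  have hmC : c.isAffineOpen_trace.fromSpec ≫ i = Spec.map c.p ≫ c.hU.fromSpec :=
    (IsAffineOpen.SpecMap_appLE_fromSpec i c.hU c.isAffineOpen_trace le_rfl).symm
  have hmCj : c.isAffineOpen_trace.fromSpec ≫ j = Spec.map c.q ≫ c.hV.fromSpec :=
    (IsAffineOpen.SpecMap_appLE_fromSpec j c.hV c.isAffineOpen_trace c.trace.le).symm
  have hA : c.hU.fromSpec ≫ a ≫ r = Spec.map ρA ≫ hT.fromSpec := by
    rw [reassoc_of% hmA, hm, ← Category.assoc, ← Spec.map_comp]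
  have hB : c.hV.fromSpec ≫ b ≫ r = Spec.map ρB ≫ hT.fromSpec := by
    rw [reassoc_of% hmB, hm, ← Category.assoc, ← Spec.map_comp]
  have hCm : c.isAffineOpen_trace.fromSpec ≫ i ≫ a ≫ r = Spec.map ρC ≫ hT.fromSpec := by
    rw [reassoc_of% hmC, hA, ← Category.assoc, ← Spec.map_comp]
  haveI : IsOpenImmersion m := inferInstanceAs (IsOpenImmersion (chartι c ≫ e.hom))
  let fA : c.ring →ₐ[Γ(S, T)] Γ(X, c.U) := { c.g.hom with commutes' := fun _ => rfl }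
  let fB : c.ring →ₐ[Γ(S, T)] Γ(Y, c.V) := { c.f.hom with commutes' := fun _ => rfl }
  let fp : Γ(X, c.U) →ₐ[Γ(S, T)] Γ(Z, i ⁻¹ᵁ c.U) := { c.p.hom with commutes' := fun _ => rfl }
  let fq : Γ(Y, c.V) →ₐ[Γ(S, T)] Γ(Z, i ⁻¹ᵁ c.U) :=
    { c.q.hom with commutes' := fun r => c.w (ρ r) }
  have hsq : Misc6.FibreSquare fB.toRingHom fA.toRingHom fq.toRingHom fp.toRingHom := c.fibreSquare
  have hxm : πP x ∈ Set.range m := by
    obtain ⟨w₀, hw₀⟩ := hxc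
    exact ⟨w₀, (congrArg e.hom hw₀).trans hy⟩
  exact localData_of r g hP' hX' hY' hZ' hj₁ hj₂ hT hT' hTT' rfl fA fB fq fp hsq
    (flat_appLE_or r g hflat hT hT' hTT' ρC c.isAffineOpen_trace.fromSpec hCm) m
    c.hU.fromSpec c.hV.fromSpec c.isAffineOpen_trace.fromSpec hm hmA hmB hmC hmCj
    ((preimage_range_left hC hP c).trans c.hU.range_fromSpec.symm)
    ((preimage_range_right hC hP c).trans c.hV.range_fromSpec.symm)
    (by rw [IsAffineOpen.range_fromSpec, IsAffineOpen.range_fromSpec]; rfl) x hxm hxT'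

theorem isPushout_baseChange (hC : Covered i j) (hP : IsPushout i j a b) (hflat : Flat g ∨ Flat (i ≫ a ≫ r))
    (hP' : IsPullback πP sP r g) (hX' : IsPullback πX a' a πP) (hY' : IsPullback πY b' b πP)
    (hZ' : IsPullback πZ i' i πX) (hj₁ : j' ≫ πY = πZ ≫ j) (hj₂ : i' ≫ a' = j' ≫ b') :
    IsPushout i' j' a' b' := by
  haveI : IsClosedImmersion i' := MorphismProperty.of_isPullback hZ' ‹_›
  haveI : IsAffineHom a := prop_left @IsAffineHom hC hP (isAffineHom_inl hC)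
  haveI : IsClosedImmersion b := isClosedImmersion_right hC hP
  haveI : IsAffineHom a' := MorphismProperty.of_isPullback hX' ‹_›
  haveI : IsAffineHom b' := MorphismProperty.of_isPullback hY' inferInstance
  exact isPushout_of_local hj₂ (nonempty_localData r g hC hP hflat hP' hX' hY' hZ' hj₁ hj₂)

theorem flat_of_isPushout (hC : Covered i j) (hP : IsPushout i j a b)
    [Flat (a ≫ r)] [Flat (b ≫ r)] [Flat (i ≫ a ≫ r)] : Flat r := by
  let e := objIso hC hP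
  refine (MorphismProperty.cancel_left_of_respectsIso @Flat e.hom r).mp ?_
  have hcov : ∀ x : obj i j, ∃ c : { c : Chart i j // ∃ T : S.Opens, IsAffineOpen T ∧
      Set.range (chartι c ≫ e.hom ≫ r) ⊆ (T : Set S) }, ∃ w, chartι c.1 w = x := fun x => by
    obtain ⟨_, ⟨T, hT, rfl⟩, hxT, -⟩ :=
      S.isBasis_affineOpens.exists_subset_of_mem_open (Set.mem_univ ((e.hom ≫ r) x)) isOpen_univ
    obtain ⟨c, ⟨w, hw⟩, hc⟩ := exists_chart_le ((e.hom ≫ r) ⁻¹ᵁ T) (x := x) hxT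
    exact ⟨⟨c, T, hT, by rintro _ ⟨y, rfl⟩; exact hc ⟨y, rfl⟩⟩, w, hw⟩
  refine IsZariskiLocalAtSource.of_openCover (P := @Flat)
    (Scheme.Cover.mkOfCovers (P := @IsOpenImmersion)
      { c : Chart i j // ∃ T : S.Opens, IsAffineOpen T ∧ Set.range (chartι c ≫ e.hom ≫ r) ⊆ (T : Set S) }
      (fun c => c.1.W) (fun c => chartι c.1) hcov fun _ => inferInstance) ?_
  rintro ⟨c, T, hT, hc⟩
  show Flat (chartι c ≫ e.hom ≫ r)
  obtain ⟨ρ, hρ⟩ := Spec.map_surjective (IsOpenImmersion.lift hT.fromSpec (chartι c ≫ e.hom ≫ r)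
    (by rw [hT.range_fromSpec]; exact hc))
  have hm : Spec.map ρ ≫ hT.fromSpec = chartι c ≫ e.hom ≫ r := by rw [hρ, IsOpenImmersion.lift_fac]
  have key : ∀ {A : CommRingCat.{u}} {W : Scheme.{u}} (ρA : Γ(S, T) ⟶ A) (m : Spec A ⟶ W) [IsOpenImmersion m]
      (t : W ⟶ S) [Flat t], m ≫ t = Spec.map ρA ≫ hT.fromSpec → ρA.hom.Flat := by
    intro A W ρA m _ t _ h
    haveI : Flat (Spec.map ρA ≫ hT.fromSpec) := by rw [← h]; infer_instance
    exact (HasRingHomProperty.Spec_iff (P := @Flat)).mp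
      (GrothLib.Thickening.of_comp_mono @Flat _ hT.fromSpec inferInstance)
  have hA : c.hU.fromSpec ≫ a ≫ r = Spec.map (ρ ≫ c.g) ≫ hT.fromSpec := by
    rw [Spec.map_comp, Category.assoc, hm, ← Category.assoc c.hU.fromSpec, ← inl_objIso hC hP,
      ← Category.assoc c.hU.fromSpec, fromSpec_inl, Category.assoc, Category.assoc]
    rfl
  have hB : c.hV.fromSpec ≫ b ≫ r = Spec.map (ρ ≫ c.f) ≫ hT.fromSpec := by
    rw [Spec.map_comp, Category.assoc, hm, ← Category.assoc c.hV.fromSpec, ← inr_objIso hC hP,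
      ← Category.assoc c.hV.fromSpec, fromSpec_inr, Category.assoc, Category.assoc]
    rfl
  have hCm : c.isAffineOpen_trace.fromSpec ≫ i ≫ a ≫ r = Spec.map (ρ ≫ c.g ≫ c.p) ≫ hT.fromSpec := by
    rw [← Category.assoc ρ, Spec.map_comp, Category.assoc, ← hA, ← Category.assoc _ i,
      ← IsAffineOpen.SpecMap_appLE_fromSpec i c.hU c.isAffineOpen_trace le_rfl, Category.assoc]
    rfl
  have hflat : ρ.hom.Flat := by
    let ρA := ρ ≫ c.g
    let ρB := ρ ≫ c.f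
    let ρC := ρ ≫ c.g ≫ c.p
    letI := ρ.hom.toAlgebra
    letI := ρA.hom.toAlgebra
    letI := ρB.hom.toAlgebra
    letI := ρC.hom.toAlgebra
    haveI : Module.Flat Γ(S, T) Γ(X, c.U) := key ρA _ _ hA
    haveI : Module.Flat Γ(S, T) Γ(Y, c.V) := key ρB _ _ hB
    haveI : Module.Flat Γ(S, T) Γ(Z, i ⁻¹ᵁ c.U) := key ρC _ _ hCm
    exact flat_of_fibreSquare (f := ({ c.f.hom with commutes' := fun _ => rfl } : c.ring →ₐ[Γ(S, T)] Γ(Y, c.V)))
      (g := ({ c.g.hom with commutes' := fun _ => rfl } : c.ring →ₐ[Γ(S, T)] Γ(X, c.U)))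
      (q := ({ c.q.hom with commutes' := fun r => c.w (ρ r) } : Γ(Y, c.V) →ₐ[Γ(S, T)] Γ(Z, i ⁻¹ᵁ c.U)))
      (p := ({ c.p.hom with commutes' := fun _ => rfl } : Γ(X, c.U) →ₐ[Γ(S, T)] Γ(Z, i ⁻¹ᵁ c.U)))
      c.fibreSquare
  rw [← hm]
  haveI : Flat (Spec.map ρ) := (HasRingHomProperty.Spec_iff (P := @Flat)).mpr hflat
  infer_instance

end

end GrothLib.Pushout6

namespace GrothLib.Pushout6

theorem covered_of_isAffineHom {X Y Z P : Scheme.{u}} {i : Z ⟶ X} {j : Z ⟶ Y} [IsClosedImmersion i]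
    {a : X ⟶ P} {b : Y ⟶ P} [IsAffineHom a] [IsAffineHom b] (hw : i ≫ a = j ≫ b) : Covered i j := fun y => by
  obtain ⟨_, ⟨W, hW, rfl⟩, hyW, -⟩ :=
    P.isBasis_affineOpens.exists_subset_of_mem_open (Set.mem_univ (b y)) isOpen_univ
  exact ⟨⟨a ⁻¹ᵁ W, b ⁻¹ᵁ W, hW.preimage a, hW.preimage b, by
    rw [← Scheme.Hom.comp_preimage, hw, Scheme.Hom.comp_preimage]⟩, hyW⟩

theorem covered_of_isAffineHom_left {X Y Z P : Scheme.{u}} {i : Z ⟶ X} {j : Z ⟶ Y} [IsClosedImmersion i]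
    [IsIntegralHom j] {a : X ⟶ P} {b : Y ⟶ P} [IsAffineHom a] (hw : i ≫ a = j ≫ b) : Covered i j :=
  covered_of_integral i j fun y => by
    obtain ⟨_, ⟨W, hW, rfl⟩, hyW, -⟩ :=
      P.isBasis_affineOpens.exists_subset_of_mem_open (Set.mem_univ (b y)) isOpen_univ
    refine ⟨a ⁻¹ᵁ W, hW.preimage a, fun z hz => ?_⟩
    show (i ≫ a) z ∈ W
    rw [hw]
    show b (j z) ∈ W
    rw [show j z = y from hz]
    exact hyW

/-- The square of pullback maps is cartesian. -/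
theorem isPullback_map {M N S S' : Scheme.{u}} (ν : M ⟶ N) (rN : N ⟶ S) (rM : M ⟶ S) (g : S' ⟶ S)
    (ν' : pullback rM g ⟶ pullback rN g) (hr : ν ≫ rN = rM)
    (h₁ : ν' ≫ pullback.fst rN g = pullback.fst rM g ≫ ν) (h₂ : ν' ≫ pullback.snd rN g = pullback.snd rM g) :
    IsPullback (pullback.fst rM g) ν' ν (pullback.fst rN g) :=
  IsPullback.of_bot (v₂₁ := pullback.snd rN g) (v₂₂ := rN) (h₃₁ := g)
    (by rw [h₂, hr]; exact IsPullback.of_hasPullback rM g) h₁.symm (IsPullback.of_hasPullback rN g)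

end GrothLib.Pushout6

namespace GrothLib.Pushout6

theorem pullback_square {M N₁ N₂ Q S S' : Scheme.{u}} {rM : M ⟶ S} {r₁ : N₁ ⟶ S} {r₂ : N₂ ⟶ S} {rQ : Q ⟶ S}
    {g : S' ⟶ S} {ν₁ : M ⟶ N₁} {ν₂ : M ⟶ N₂} {μ₁ : N₁ ⟶ Q} {μ₂ : N₂ ⟶ Q} (hw : ν₁ ≫ μ₁ = ν₂ ≫ μ₂)
    {ν₁' : pullback rM g ⟶ pullback r₁ g} {ν₂' : pullback rM g ⟶ pullback r₂ g}
    {μ₁' : pullback r₁ g ⟶ pullback rQ g} {μ₂' : pullback r₂ g ⟶ pullback rQ g}
    (a₁ : ν₁' ≫ pullback.fst r₁ g = pullback.fst rM g ≫ ν₁) (a₂ : ν₁' ≫ pullback.snd r₁ g = pullback.snd rM g)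
    (b₁ : ν₂' ≫ pullback.fst r₂ g = pullback.fst rM g ≫ ν₂) (b₂ : ν₂' ≫ pullback.snd r₂ g = pullback.snd rM g)
    (c₁ : μ₁' ≫ pullback.fst rQ g = pullback.fst r₁ g ≫ μ₁) (c₂ : μ₁' ≫ pullback.snd rQ g = pullback.snd r₁ g)
    (d₁ : μ₂' ≫ pullback.fst rQ g = pullback.fst r₂ g ≫ μ₂) (d₂ : μ₂' ≫ pullback.snd rQ g = pullback.snd r₂ g) :
    ν₁' ≫ μ₁' = ν₂' ≫ μ₂' := by
  apply pullback.hom_ext
  · rw [Category.assoc, c₁, reassoc_of% a₁, hw, Category.assoc, d₁, reassoc_of% b₁]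
  · rw [Category.assoc, c₂, a₂, Category.assoc, d₂, b₂]

end GrothLib.Pushout6
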