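import Groth.Agent.Lib.Pushout6.Transfer
import Mathlib.Order.Preorder.Finite

/-!
# A finite set of a pushout of closed immersions in an affine open
-/

universe u

open CategoryTheory Limits AlgebraicGeometry Opposite TopologicalSpace

namespace GrothLib.Pushout6

theorem exists_add_avoid {R : Type u} [CommRing R] (a : R) (I : Ideal R) (S : Finset (Ideal R))
    (hS : ∀ P ∈ S, P.IsPrime ∧ ¬ I ≤ P) : ∃ κ ∈ I, ∀ P ∈ S, a + κ ∉ P := by
  classical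
  induction S using Finset.strongInduction with
  | _ S ih =>
    rcases S.eq_empty_or_nonempty with rfl | hne
    · exact ⟨0, I.zero_mem, by simp⟩
    obtain ⟨P, hP, hmin⟩ := S.exists_minimal hne
    obtain ⟨κ, hκ, hS'⟩ := ih (S.erase P) (Finset.erase_ssubset hP) fun Q hQ => hS Q (Finset.mem_of_mem_erase hQ)
    by_cases h : a + κ ∈ P
    swap
    · exact ⟨κ, hκ, fun Q hQ => (eq_or_ne Q P).elim (fun e => e ▸ h) fun e => hS' Q (Finset.mem_erase.mpr ⟨e, hQ⟩)⟩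
    obtain ⟨m, hm, hmP⟩ : ∃ m, m ∈ I ⊓ (S.erase P).inf id ∧ m ∉ P := by
      refine SetLike.not_le_iff_exists.mp fun hle => ?_
      rcases (hS P hP).1.inf_le.mp hle with h' | h'
      · exact (hS P hP).2 h'
      obtain ⟨Q, hQ, hQP⟩ := (hS P hP).1.inf_le'.mp h'
      exact (Finset.ne_of_mem_erase hQ) (le_antisymm hQP (hmin (Finset.mem_of_mem_erase hQ) hQP))
    refine ⟨κ + m, I.add_mem hκ hm.1, fun Q hQ hmem => ?_⟩
    rcases eq_or_ne Q P with rfl | e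
    · exact hmP (by simpa [← add_assoc] using Q.sub_mem hmem h)
    · refine hS' Q (Finset.mem_erase.mpr ⟨e, hQ⟩) ?_
      have hmQ : m ∈ Q := Finset.inf_le (f := id) (Finset.mem_erase.mpr ⟨e, hQ⟩) hm.2
      simpa [← add_assoc] using Q.sub_mem hmem hmQ

theorem exists_basicOpen_of_finite {X : Scheme.{u}} {U : X.Opens} (hU : IsAffineOpen U) {W : X.Opens}
    {E : Set X} (hE : E.Finite) (hEU : E ⊆ U) (hEW : E ⊆ W) :
    ∃ r : Γ(X, U), X.basicOpen r ≤ W ∧ E ⊆ (X.basicOpen r : Set X) := by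
  classical
  obtain ⟨K, hK⟩ := (PrimeSpectrum.isClosed_iff_zeroLocus_ideal _).mp
    ((hU.fromSpec ⁻¹ᵁ W).2.isClosed_compl : IsClosed (X := PrimeSpectrum Γ(X, U)) _)
  have hfin : (hU.fromSpec ⁻¹' E).Finite := hE.preimage hU.fromSpec.isOpenEmbedding.injective.injOn
  obtain ⟨r, hr, hrE⟩ : ∃ r ∈ K, ∀ u ∈ hU.fromSpec ⁻¹' E, r ∉ u.asIdeal := by
    by_contra hne
    push Not at hne
    obtain ⟨P, hP, hle⟩ := (Ideal.subset_union_prime
      (s := hfin.toFinset.image fun u : Spec Γ(X, U) => u.asIdeal) (f := id) ⊥ ⊥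
      fun P hP _ _ => by
        obtain ⟨u, -, rfl⟩ := Finset.mem_image.mp hP
        exact u.isPrime).mp fun r hr => by
        obtain ⟨u, hu, hru⟩ := hne r hr
        exact Set.mem_biUnion (Finset.mem_image_of_mem _ (hfin.mem_toFinset.mpr hu)) hru
    obtain ⟨u, hu, rfl⟩ := Finset.mem_image.mp hP
    exact (hK.superset (show u ∈ PrimeSpectrum.zeroLocus (K : Set Γ(X, U)) from hle))
      (hEW (hfin.mem_toFinset.mp hu))
  refine ⟨r, fun x hx => ?_, fun x hx => ?_⟩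
  · obtain ⟨u, rfl⟩ := hU.range_fromSpec.superset (X.basicOpen_le r hx)
    by_contra hu
    exact (Chart.fromSpec_mem_basicOpen hU r u).mp hx ((hK ▸ hu : u ∈ PrimeSpectrum.zeroLocus (K : Set Γ(X, U))) hr)
  · obtain ⟨u, rfl⟩ := hU.range_fromSpec.superset (hEU hx)
    exact (Chart.fromSpec_mem_basicOpen hU r u).mpr (hrE u hx)

variable {X Y Z P : Scheme.{u}} (i : Z ⟶ X) (j : Z ⟶ Y) [IsClosedImmersion i]

theorem covered_of_isClosedImmersion [IsClosedImmersion j] : Covered i j :=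
  covered_of_integral i j fun y => by
    by_cases h : ∃ z, j z = y
    · obtain ⟨z, rfl⟩ := h
      obtain ⟨_, ⟨U, hU, rfl⟩, hzU, -⟩ :=
        X.isBasis_affineOpens.exists_subset_of_mem_open (Set.mem_univ (i z)) isOpen_univ
      exact ⟨U, hU, fun z' hz' => by
        show i z' ∈ U
        rw [j.isClosedEmbedding.injective hz']
        exact hzU⟩
    · exact ⟨⊥, isAffineOpen_bot X, fun z hz => absurd ⟨z, hz⟩ h⟩

theorem exists_chart_finite [IsClosedImmersion j] (E₁ : Set X) (E₂ : Set Y) (h₁ : E₁.Finite) (h₂ : E₂.Finite)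
    (hE : ∀ z, i z ∈ E₁ ↔ j z ∈ E₂) (U₁ : X.Opens) (hU₁ : IsAffineOpen U₁) (hE₁ : E₁ ⊆ U₁)
    (U₂ : Y.Opens) (hU₂ : IsAffineOpen U₂) (hE₂ : E₂ ⊆ U₂) :
    ∃ c : Chart i j, E₁ ⊆ c.U ∧ E₂ ⊆ c.V := by
  classical
  let W₁ : X.Opens := ⟨(i '' ((j ⁻¹ᵁ U₂ : Z.Opens) : Set Z)ᶜ)ᶜ,
    (i.isClosedEmbedding.isClosedMap _ (j ⁻¹ᵁ U₂).2.isClosed_compl).isOpen_compl⟩
  obtain ⟨r, hr, hrE⟩ := exists_basicOpen_of_finite hU₁ (W := W₁) h₁ hE₁
    fun x hx ⟨z, hz, hzx⟩ => hz (hE₂ ((hE z).mp (hzx ▸ hx)))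
  let U' := X.basicOpen r
  have hU' : IsAffineOpen U' := hU₁.basicOpen r
  have hU'2 : i ⁻¹ᵁ U' ≤ j ⁻¹ᵁ U₂ := fun z hz => by_contra fun hn => hr hz ⟨z, hn, rfl⟩
  let W₂ : Y.Opens := ⟨(j '' ((i ⁻¹ᵁ U' : Z.Opens) : Set Z)ᶜ)ᶜ,
    (j.isClosedEmbedding.isClosedMap _ (i ⁻¹ᵁ U').2.isClosed_compl).isOpen_compl⟩
  obtain ⟨g, hg, hgE⟩ := exists_basicOpen_of_finite hU₂ (W := W₂) h₂ hE₂
    fun y hy ⟨z, hz, hzy⟩ => hz (hrE ((hE z).mpr (hzy ▸ hy)))
  have htr : j ⁻¹ᵁ Y.basicOpen g ≤ i ⁻¹ᵁ U' := fun z hz => by_contra fun hn => hg hz ⟨z, hn, rfl⟩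
  obtain ⟨a, ha⟩ := i.app_surjective U' hU' (j.appLE U₂ (i ⁻¹ᵁ U') hU'2 g)
  have hfin : (hU'.fromSpec ⁻¹' E₁).Finite := h₁.preimage hU'.fromSpec.isOpenEmbedding.injective.injOn
  let S := (hfin.toFinset.filter fun u => ¬ RingHom.ker (i.app U').hom ≤ u.asIdeal).image
    fun u : Spec Γ(X, U') => u.asIdeal
  obtain ⟨κ, hκ, hS⟩ := exists_add_avoid a (RingHom.ker (i.app U').hom) S fun P hP => by
    obtain ⟨u, hu, rfl⟩ := Finset.mem_image.mp hP
    exact ⟨u.isPrime, (Finset.mem_filter.mp hu).2⟩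
  have ha' : (i.app U').hom (a + κ) = j.appLE U₂ (i ⁻¹ᵁ U') hU'2 g := by
    rw [map_add, show (i.app U').hom κ = 0 from hκ, add_zero]
    exact ha
  have hc : i ⁻¹ᵁ X.basicOpen (a + κ) = j ⁻¹ᵁ Y.basicOpen g := by
    rw [Scheme.preimage_basicOpen]
    refine (congrArg Z.basicOpen ha').trans ?_
    rw [Scheme.basicOpen_appLE]
    exact inf_eq_right.mpr htr
  refine ⟨⟨X.basicOpen (a + κ), Y.basicOpen g, hU'.basicOpen _, hU₂.basicOpen g, hc⟩, fun x hx => ?_, hgE⟩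
  obtain ⟨u, rfl⟩ := hU'.range_fromSpec.superset (hrE hx)
  by_cases hker : RingHom.ker (i.app U').hom ≤ u.asIdeal
  · have hu : u ∈ Set.range (PrimeSpectrum.comap (i.app U').hom) := by
      rw [range_comap_of_surjective _ _ (i.app_surjective U' hU')]
      exact hker
    obtain ⟨w, hw⟩ := hu
    have hz : i ((hU'.preimage i).fromSpec w) = hU'.fromSpec u := by
      rw [← hw]
      have := congr($(IsAffineOpen.SpecMap_appLE_fromSpec i hU' (hU'.preimage i) le_rfl) w)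
      rw [← Scheme.Hom.app_eq_appLE] at this
      exact this.symm
    rw [← hz]
    show (hU'.preimage i).fromSpec w ∈ i ⁻¹ᵁ X.basicOpen (a + κ)
    rw [hc]
    refine hgE ((hE _).mp ?_)
    rw [hz]
    exact hx
  · exact (Chart.fromSpec_mem_basicOpen hU' _ u).mpr (hS _ (Finset.mem_image.mpr
      ⟨u, Finset.mem_filter.mpr ⟨hfin.mem_toFinset.mpr hx, hker⟩, rfl⟩))

theorem exists_affine_of_finite [IsClosedImmersion j] {a : X ⟶ P} {b : Y ⟶ P} (hP : IsPushout i j a b)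
    (E : Set P) (hE : E.Finite)
    (h₁ : ∃ U₁ : X.Opens, IsAffineOpen U₁ ∧ a ⁻¹' E ⊆ (U₁ : Set X))
    (h₂ : ∃ U₂ : Y.Opens, IsAffineOpen U₂ ∧ b ⁻¹' E ⊆ (U₂ : Set Y)) :
    ∃ U : P.Opens, IsAffineOpen U ∧ E ⊆ (U : Set P) := by
  obtain ⟨U₁, hU₁, hE₁⟩ := h₁
  obtain ⟨U₂, hU₂, hE₂⟩ := h₂
  have hC := covered_of_isClosedImmersion i j
  haveI : IsClosedImmersion a := prop_left @IsClosedImmersion hC hP (isClosedImmersion_inl hC)
  haveI : IsClosedImmersion b := isClosedImmersion_right hC hP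
  obtain ⟨c, hc₁, hc₂⟩ := exists_chart_finite i j (a ⁻¹' E) (b ⁻¹' E)
    (hE.preimage a.isClosedEmbedding.injective.injOn) (hE.preimage b.isClosedEmbedding.injective.injOn)
    (fun z => by
      have : a (i z) = b (j z) := congr($(hP.w) z)
      show a (i z) ∈ E ↔ b (j z) ∈ E
      rw [this])
    U₁ hU₁ hE₁ U₂ hU₂ hE₂
  refine ⟨(chartι c ≫ (objIso hC hP).hom).opensRange, isAffineOpen_opensRange _, fun e he => ?_⟩
  rcases jointly_surjective hC hP e with ⟨u, rfl⟩ | ⟨v, rfl⟩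
  · obtain ⟨w, rfl⟩ := c.hU.range_fromSpec.superset (hc₁ he)
    refine ⟨c.α w, ?_⟩
    refine Eq.trans ?_ (congr($(inl_objIso hC hP) _))
    show (objIso hC hP).hom (chartι c (c.α w)) = (objIso hC hP).hom (inl hC (c.hU.fromSpec w))
    rw [inl_apply]
  · obtain ⟨w, rfl⟩ := c.hV.range_fromSpec.superset (hc₂ he)
    refine ⟨c.β w, ?_⟩
    refine Eq.trans ?_ (congr($(inr_objIso hC hP) _))
    show (objIso hC hP).hom (chartι c (c.β w)) = (objIso hC hP).hom (inr hC (c.hV.fromSpec w))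
    rw [inr_apply]

end GrothLib.Pushout6
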