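import Mathlib.AlgebraicGeometry.Morphisms.Basic
import Mathlib.AlgebraicGeometry.Pullbacks
import Mathlib.AlgebraicGeometry.PullbackCarrier

/-!
# Cartesian squares can be checked on an open cover
-/

universe u

open CategoryTheory Limits AlgebraicGeometry

namespace GrothLib.Pushout6

/-- A square is cartesian if it is cartesian over every member of an open cover of the lower-left corner. -/
theorem isPullback_of_cover {X X' P P' : Scheme.{u}} {fst : X' ⟶ X} {snd : X' ⟶ P'} {f : X ⟶ P} {k : P' ⟶ P}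
    (w : fst ≫ f = snd ≫ k) (𝒰 : P'.OpenCover)
    (h : ∀ c : 𝒰.I₀, ∃ (U : Scheme.{u}) (u : U ⟶ X') (a : U ⟶ 𝒰.X c),
      IsPullback u a snd (𝒰.f c) ∧ IsPullback (u ≫ fst) a f (𝒰.f c ≫ k)) :
    IsPullback fst snd f k := by
  let e : X' ⟶ pullback f k := pullback.lift fst snd w
  suffices IsIso e from
    IsPullback.of_iso_pullback ⟨w⟩ (asIso e) (pullback.lift_fst _ _ _) (pullback.lift_snd _ _ _)
  let 𝒱 : (pullback f k).OpenCover :=
    Scheme.Cover.mkOfCovers (P := @IsOpenImmersion) 𝒰.I₀
      (fun c => pullback (pullback.snd f k) (𝒰.f c)) (fun c => pullback.fst _ _)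
      (fun z => by
        obtain ⟨y, hy⟩ := 𝒰.covers (pullback.snd f k z)
        obtain ⟨x, hx, -⟩ := Scheme.Pullback.exists_preimage_pullback z y hy.symm
        exact ⟨𝒰.idx (pullback.snd f k z), x, hx⟩)
      (fun _ => inferInstance)
  refine (IsZariskiLocalAtTarget.iff_of_openCover (P := MorphismProperty.isomorphisms Scheme) (f := e) 𝒱).mpr
    fun c => ?_
  obtain ⟨U, u, a, h₁, h₂⟩ := h c
  have hQ := IsPullback.of_hasPullback (pullback.snd f k) (𝒰.f c)
  have hQ' := hQ.paste_horiz (IsPullback.of_hasPullback f k)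
  let t : U ⟶ pullback (pullback.snd f k) (𝒰.f c) :=
    pullback.lift (u ≫ e) a (by rw [Category.assoc, pullback.lift_snd, h₁.w])
  have ht : t = (h₂.isoIsPullback _ _ hQ').hom := by
    apply hQ'.hom_ext
    · rw [IsPullback.isoIsPullback_hom_fst, ← Category.assoc, pullback.lift_fst, Category.assoc, pullback.lift_fst]
    · rw [IsPullback.isoIsPullback_hom_snd, pullback.lift_snd]
  have hsq : IsPullback u t e (pullback.fst (pullback.snd f k) (𝒰.f c)) :=
    IsPullback.of_bot (v₂₁ := pullback.snd _ _) (v₂₂ := pullback.snd f k) (h₃₁ := 𝒰.f c)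
      (by rw [pullback.lift_snd, pullback.lift_snd]; exact h₁) (pullback.lift_fst _ _ _).symm hQ
  refine ((MorphismProperty.isomorphisms Scheme).cancel_left_of_respectsIso hsq.isoPullback.hom _).mp ?_
  change MorphismProperty.isomorphisms Scheme (hsq.isoPullback.hom ≫ pullback.snd e _)
  rw [IsPullback.isoPullback_hom_snd, ht]
  exact inferInstanceAs (IsIso (h₂.isoIsPullback _ _ hQ').hom)

end GrothLib.Pushout6
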