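import Groth.Agent.Lib.Misc6.AffinePushout
import Mathlib.Algebra.Category.Ring.Constructions
import Mathlib.RingTheory.QuasiFinite.Basic
import Mathlib.RingTheory.RingHom.QuasiFinite
import Mathlib.RingTheory.RingHom.FiniteType

/-!
# Maps between fibre products of rings inducing cartesian squares
-/

universe u

open CategoryTheory Limits
open scoped TensorProduct

namespace GrothLib.Pushout6

/-- A map of fibre squares of rings whose two side squares are cocartesian. -/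
structure SquareMap (P A B C P' A' B' C' : CommRingCat.{u}) where
  f : P ⟶ B
  g : P ⟶ A
  q : B ⟶ C
  p : A ⟶ C
  f' : P' ⟶ B'
  g' : P' ⟶ A'
  q' : B' ⟶ C'
  p' : A' ⟶ C'
  φP : P ⟶ P'
  φA : A ⟶ A'
  φB : B ⟶ B'
  φC : C ⟶ C'
  sq : Misc6.FibreSquare f.hom g.hom q.hom p.hom
  sq' : Misc6.FibreSquare f'.hom g'.hom q'.hom p'.hom
  hf : φP ≫ f' = f ≫ φB
  hg : φP ≫ g' = g ≫ φA
  hq : IsPushout φB q q' φC
  hp : IsPushout φA p p' φC

namespace SquareMap

variable {P A B C P' A' B' C' : CommRingCat.{u}} (M : SquareMap P A B C P' A' B' C')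

theorem hf' (x : P) : M.f' (M.φP x) = M.φB (M.f x) := congr($(M.hf) x)

theorem hg' (x : P) : M.g' (M.φP x) = M.φA (M.g x) := congr($(M.hg) x)

theorem exists_lift {κ : A} (h : M.p κ = 0) : ∃ x : P, M.f x = 0 ∧ M.g x = κ :=
  M.sq.ex 0 κ (by rw [map_zero]; exact h.symm)

theorem f_surjective : Function.Surjective M.f := fun b => by
  obtain ⟨a, ha⟩ := M.sq.surj (M.q b)
  obtain ⟨x, hx, -⟩ := M.sq.ex b a ha.symm
  exact ⟨x, hx⟩

theorem f'_surjective : Function.Surjective M.f' := fun b => by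
  obtain ⟨a, ha⟩ := M.sq'.surj (M.q' b)
  obtain ⟨x, hx, -⟩ := M.sq'.ex b a ha.symm
  exact ⟨x, hx⟩

theorem ext' {x y : P'} (h₁ : M.f' x = M.f' y) (h₂ : M.g' x = M.g' y) : x = y :=
  sub_eq_zero.mp (M.sq'.inj (x - y) (by rw [map_sub]; exact sub_eq_zero.mpr h₁)
    (by rw [map_sub]; exact sub_eq_zero.mpr h₂))

theorem ker_p'_le : RingHom.ker M.p'.hom ≤ (RingHom.ker M.p.hom).map M.φA.hom := by
  let I := (RingHom.ker M.p.hom).map M.φA.hom
  let π : A' ⟶ CommRingCat.of (A' ⧸ I) := CommRingCat.ofHom (Ideal.Quotient.mk I)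
  have hk : RingHom.ker M.p.hom ≤ RingHom.ker (M.φA ≫ π).hom := fun κ hκ => by
    show Ideal.Quotient.mk I (M.φA κ) = 0
    exact Ideal.Quotient.eq_zero_iff_mem.mpr (Ideal.mem_map_of_mem _ hκ)
  let τ : C ⟶ CommRingCat.of (A' ⧸ I) :=
    CommRingCat.ofHom (M.p.hom.liftOfSurjective M.sq.surj ⟨(M.φA ≫ π).hom, hk⟩)
  have hτ : M.φA ≫ π = M.p ≫ τ := CommRingCat.hom_ext
    (RingHom.liftOfSurjective_comp M.p.hom M.sq.surj ⟨(M.φA ≫ π).hom, hk⟩).symm
  intro w hw
  have h := congr($(M.hp.inl_desc π τ hτ) w)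
  rw [CommRingCat.comp_apply, show M.p' w = 0 from hw, map_zero] at h
  exact Ideal.Quotient.eq_zero_iff_mem.mp h.symm

theorem sup_range_eq_top : M.φA.hom.range ⊔ M.g'.hom.range = ⊤ := by
  refine eq_top_iff.mpr fun a' _ => ?_
  let S := M.φA.hom.range ⊔ M.g'.hom.range
  have hC : Subring.closure (Set.range M.q'.hom ∪ Set.range M.φC.hom) = ⊤ :=
    CommRingCat.closure_range_union_range_eq_top_of_isPushout M.hq
  have h₁ : Subring.closure (Set.range M.q'.hom ∪ Set.range M.φC.hom) ≤ S.map M.p'.hom := by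
    rw [Subring.closure_le]
    rintro _ (⟨b, rfl⟩ | ⟨c, rfl⟩)
    · obtain ⟨x, rfl⟩ := M.f'_surjective b
      exact ⟨M.g' x, le_sup_right (α := Subring A') ⟨x, rfl⟩, (congr($(M.sq'.w) x)).symm⟩
    · obtain ⟨a, rfl⟩ := M.sq.surj c
      exact ⟨M.φA a, le_sup_left (α := Subring A') ⟨a, rfl⟩, congr($(M.hp.w) a)⟩
  rw [hC] at h₁
  obtain ⟨a₀, ha₀, he⟩ := h₁ (Subring.mem_top (M.p' a'))
  obtain ⟨x, -, hx⟩ := M.sq'.ex 0 (a' - a₀) (by
    rw [map_zero, map_sub]
    exact (sub_eq_zero.mpr he.symm).symm)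
  have : M.g' x + a₀ ∈ S := S.add_mem (le_sup_right (α := Subring A') ⟨x, rfl⟩) ha₀
  rwa [show M.g' x = a' - a₀ from hx, sub_add_cancel] at this

/-- The absorption lemma: kernel elements lie in `I S₀`. -/
theorem exists_mem_of_f'_eq_zero (S₀ : Subring P') (hS₀ : ∀ x, M.φP x ∈ S₀)
    (hgen : M.φA.hom.range ⊔ S₀.map M.g'.hom = ⊤) {x : P'} (hx : M.f' x = 0) :
    x ∈ S₀ ∧ x ∈ (RingHom.ker M.f.hom).map M.φP.hom := by
  let J := (RingHom.ker M.f.hom).map M.φP.hom
  have hJ : ∀ y ∈ J, M.f' y = 0 := fun y hy => by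
    have : J ≤ RingHom.ker M.f'.hom := Ideal.map_le_iff_le_comap.mpr fun z hz => by
      show M.f' (M.φP z) = 0
      rw [M.hf', show M.f z = 0 from hz, map_zero]
    exact this hy
  let G : A' → Prop := fun a => ∃ y, y ∈ S₀ ∧ y ∈ J ∧ M.g' y = a
  let Q : A' → Prop := fun a => ∀ κ, M.p κ = 0 → G (M.φA κ * a)
  have hG0 : G 0 := ⟨0, zero_mem _, zero_mem _, map_zero _⟩
  have hGadd : ∀ a b, G a → G b → G (a + b) := fun a b ⟨y, h₁, h₂, h₃⟩ ⟨z, k₁, k₂, k₃⟩ =>
    ⟨y + z, add_mem h₁ k₁, add_mem h₂ k₂, by rw [map_add, h₃, k₃]⟩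
  have hQ1 : Q 1 := fun κ hκ => by
    obtain ⟨z, hz₁, hz₂⟩ := M.exists_lift hκ
    exact ⟨M.φP z, hS₀ z, Ideal.mem_map_of_mem _ hz₁, by rw [M.hg', hz₂, mul_one]⟩
  have hmul : ∀ m : A', ∀ a, Q a → Q (m * a) := by
    intro m
    have hm : m ∈ Subring.closure ((M.φA.hom.range : Set A') ∪ (S₀.map M.g'.hom : Set A')) := by
      rw [Subring.closure_union, Subring.closure_eq, Subring.closure_eq, hgen]
      exact Subring.mem_top m
    induction hm using Subring.closure_induction with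
    | mem m hm =>
      rcases hm with ⟨a₀, rfl⟩ | ⟨y₀, hy₀, rfl⟩
      · intro a ha κ hκ
        have := ha (κ * a₀) (by rw [map_mul, hκ, zero_mul])
        rwa [map_mul, mul_assoc] at this
      · intro a ha κ hκ
        obtain ⟨y, h₁, h₂, h₃⟩ := ha κ hκ
        exact ⟨y * y₀, mul_mem h₁ hy₀, Ideal.mul_mem_right _ _ h₂, by rw [map_mul, h₃]; ring⟩
    | zero => intro a _ κ _; rw [zero_mul, mul_zero]; exact hG0
    | one => intro a ha; rwa [one_mul]
    | add m n _ _ hm hn => intro a ha κ hκ; rw [add_mul, mul_add]; exact hGadd _ _ (hm a ha κ hκ) (hn a ha κ hκ)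
    | neg m _ hm =>
      intro a ha κ hκ
      obtain ⟨y, h₁, h₂, h₃⟩ := hm a ha κ hκ
      exact ⟨-y, neg_mem h₁, neg_mem h₂, by rw [map_neg, h₃]; ring⟩
    | mul m n _ _ hm hn => intro a ha; rw [mul_assoc]; exact hm _ (hn a ha)
  have hQ : ∀ a, Q a := fun a => by simpa using hmul a 1 hQ1
  have hker : ∀ w ∈ (RingHom.ker M.p.hom).map M.φA.hom, ∀ m, G (m * w) := by
    intro w hw
    induction hw using Submodule.span_induction with
    | mem w hw =>
      obtain ⟨κ, hκ, rfl⟩ := hw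
      intro m
      rw [mul_comm]
      exact hQ m κ hκ
    | zero => intro m; rw [mul_zero]; exact hG0
    | add v w _ _ hv hw => intro m; rw [mul_add]; exact hGadd _ _ (hv m) (hw m)
    | smul a w _ hw => intro m; rw [smul_eq_mul, ← mul_assoc]; exact hw (m * a)
  obtain ⟨y, h₁, h₂, h₃⟩ := hker (M.g' x) (M.ker_p'_le (by
    show M.p' (M.g' x) = 0
    have := congr($(M.sq'.w) x)
    rw [RingHom.comp_apply, RingHom.comp_apply] at this
    rw [← this]
    show M.q' (M.f' x) = 0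
    rw [hx, map_zero])) 1
  rw [one_mul] at h₃
  rw [← M.ext' ((hJ y h₂).trans hx.symm) h₃]
  exact ⟨h₁, h₂⟩

theorem mem_map_of_f'_eq_zero {x : P'} (hx : M.f' x = 0) : x ∈ (RingHom.ker M.f.hom).map M.φP.hom :=
  (M.exists_mem_of_f'_eq_zero ⊤ (fun _ => Subring.mem_top _)
    (by rw [← RingHom.range_eq_map]; exact M.sup_range_eq_top) hx).2

theorem isPushout_right : IsPushout M.φP M.f M.f' M.φB := by
  have key : ∀ (R : CommRingCat.{u}) (σ : P' ⟶ R) (τ : B ⟶ R), M.φP ≫ σ = M.f ≫ τ →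
      ∃ l : B' ⟶ R, M.f' ≫ l = σ ∧ M.φB ≫ l = τ := by
    intro R σ τ h
    have hk : RingHom.ker M.f'.hom ≤ RingHom.ker σ.hom := fun x hx => by
      have : (RingHom.ker M.f.hom).map M.φP.hom ≤ RingHom.ker σ.hom :=
        Ideal.map_le_iff_le_comap.mpr fun z hz => by
          show σ (M.φP z) = 0
          rw [← CommRingCat.comp_apply, h, CommRingCat.comp_apply, show M.f z = 0 from hz, map_zero]
      exact this (M.mem_map_of_f'_eq_zero hx)
    let l : B' ⟶ R := CommRingCat.ofHom (M.f'.hom.liftOfSurjective M.f'_surjective ⟨σ.hom, hk⟩)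
    have hl : M.f' ≫ l = σ :=
      CommRingCat.hom_ext (RingHom.liftOfSurjective_comp M.f'.hom M.f'_surjective ⟨σ.hom, hk⟩)
    refine ⟨l, hl, CommRingCat.hom_ext (RingHom.ext fun b => ?_)⟩
    obtain ⟨z, rfl⟩ := M.f_surjective b
    show l (M.φB (M.f z)) = τ (M.f z)
    rw [← M.hf', ← CommRingCat.comp_apply M.f' l, hl, ← CommRingCat.comp_apply, h, CommRingCat.comp_apply]
  choose l hl₁ hl₂ using key
  refine IsPushout.of_isColimit (PushoutCocone.IsColimit.mk M.hf
    (fun s => l s.pt s.inl s.inr s.condition) (fun s => hl₁ _ _ _ s.condition) (fun s => hl₂ _ _ _ s.condition)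
    fun s m h₁ _ => CommRingCat.hom_ext (RingHom.ext fun b => ?_))
  obtain ⟨x, rfl⟩ := M.f'_surjective b
  exact (congr($h₁ x)).trans (congr($(hl₁ _ _ _ s.condition) x)).symm

/-- Elements of the form `1 ⊗ y` with `y` in the kernel absorb multiplication. -/
theorem exists_absorb [Algebra P A] [Algebra P P'] (hgA : algebraMap P A = M.g.hom)
    (hφ : algebraMap P P' = M.φP.hom) (a : A) {y : P'} (hy : M.f' y = 0) :
    ∃ y' : P', M.f' y' = 0 ∧ a ⊗ₜ[P] y = (1 : A) ⊗ₜ[P] y' := by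
  have hy' := M.mem_map_of_f'_eq_zero hy
  clear hy
  induction hy' using Submodule.span_induction generalizing a with
  | mem y hy =>
    obtain ⟨z, hz, rfl⟩ := hy
    obtain ⟨z', hz₁, hz₂⟩ := M.exists_lift (κ := a * M.g z) (by
      have hw : M.p (M.g z) = M.q (M.f z) := (congr($(M.sq.w) z)).symm
      rw [map_mul, hw, show M.f z = 0 from hz, map_zero, mul_zero])
    refine ⟨M.φP z', by rw [M.hf', hz₁, map_zero], ?_⟩
    have e : ∀ w : P, (M.φP w : P') = w • (1 : P') := fun w => by rw [Algebra.smul_def, hφ, mul_one]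
    rw [show M.φP.hom z = z • (1 : P') from e z, TensorProduct.tmul_smul, TensorProduct.smul_tmul', e z',
      TensorProduct.tmul_smul, TensorProduct.smul_tmul']
    congr 1
    rw [Algebra.smul_def, Algebra.smul_def, hgA, mul_one, hz₂, mul_comm]
  | zero => exact ⟨0, map_zero _, by rw [TensorProduct.tmul_zero, TensorProduct.tmul_zero]⟩
  | add y₁ y₂ _ _ h₁ h₂ =>
    obtain ⟨z₁, k₁, e₁⟩ := h₁ a
    obtain ⟨z₂, k₂, e₂⟩ := h₂ a
    exact ⟨z₁ + z₂, by rw [map_add, k₁, k₂, add_zero], by rw [TensorProduct.tmul_add, e₁, e₂, TensorProduct.tmul_add]⟩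
  | smul x y _ h =>
    obtain ⟨z, k, e⟩ := h a
    refine ⟨x * z, by rw [map_mul, k, mul_zero], ?_⟩
    rw [smul_eq_mul]
    calc a ⊗ₜ[P] (x * y) = ((1 : A) ⊗ₜ[P] x) * (a ⊗ₜ[P] y) := by
            rw [Algebra.TensorProduct.tmul_mul_tmul, one_mul]
      _ = _ := by rw [e, Algebra.TensorProduct.tmul_mul_tmul, one_mul]

theorem bijective_tensor [Algebra P A] [Algebra P P'] [Algebra P A'] (hgA : algebraMap P A = M.g.hom)
    (hφ : algebraMap P P' = M.φP.hom) (α : A →ₐ[P] A') (β : P' →ₐ[P] A')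
    (hα : ∀ a, α a = M.φA a) (hβ : ∀ x, β x = M.g' x) :
    Function.Bijective (Algebra.TensorProduct.productMap α β) := by
  let Φ := Algebra.TensorProduct.productMap α β
  refine ⟨(injective_iff_map_eq_zero Φ).mpr fun t ht => ?_, fun a' => ?_⟩
  · let J : Ideal (A ⊗[P] P') :=
      { carrier := {t | ∃ y : P', M.f' y = 0 ∧ t = (1 : A) ⊗ₜ[P] y}
        add_mem' := by
          rintro _ _ ⟨y, hy, rfl⟩ ⟨z, hz, rfl⟩
          exact ⟨y + z, by rw [map_add, hy, hz, add_zero], (TensorProduct.tmul_add _ _ _).symm⟩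
        zero_mem' := ⟨0, map_zero _, (TensorProduct.tmul_zero _ _).symm⟩
        smul_mem' := by
          intro c x hx
          obtain ⟨y, hy, rfl⟩ := hx
          induction c with
          | zero => exact ⟨0, map_zero _, by rw [smul_eq_mul, zero_mul, TensorProduct.tmul_zero]⟩
          | tmul a x =>
            obtain ⟨y', hy', e⟩ := M.exists_absorb hgA hφ a (y := x * y) (by rw [map_mul, hy, mul_zero])
            exact ⟨y', hy', by rw [smul_eq_mul, Algebra.TensorProduct.tmul_mul_tmul, mul_one, e]⟩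
          | add c d hc hd =>
            obtain ⟨y₁, k₁, e₁⟩ := hc
            obtain ⟨y₂, k₂, e₂⟩ := hd
            exact ⟨y₁ + y₂, by rw [map_add, k₁, k₂, add_zero], by rw [add_smul, e₁, e₂, TensorProduct.tmul_add]⟩ }
    let π : A ⊗[P] P' →+* (A ⊗[P] P') ⧸ J := Ideal.Quotient.mk J
    let sA : A →+* (A ⊗[P] P') ⧸ J := π.comp Algebra.TensorProduct.includeLeftRingHom
    let sP : P' →+* (A ⊗[P] P') ⧸ J :=
      π.comp (Algebra.TensorProduct.includeRight (R := P) (A := A) (B := P')).toRingHom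
    have hagree : ∀ z : P, sA (M.g z) = sP (M.φP z) := fun z => by
      show π (M.g z ⊗ₜ[P] 1) = π (1 ⊗ₜ[P] M.φP z)
      congr 1
      calc M.g z ⊗ₜ[P] (1 : P') = (z • (1 : A)) ⊗ₜ[P] (1 : P') := by rw [Algebra.smul_def, hgA, mul_one]
        _ = (1 : A) ⊗ₜ[P] (z • (1 : P')) := TensorProduct.smul_tmul z 1 1
        _ = _ := by rw [Algebra.smul_def, hφ, mul_one]
    have kA : RingHom.ker M.p.hom ≤ RingHom.ker sA := fun κ hκ => by
      obtain ⟨z, hz₁, hz₂⟩ := M.exists_lift hκ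
      show sA κ = 0
      rw [← hz₂, hagree]
      exact Ideal.Quotient.eq_zero_iff_mem.mpr ⟨M.φP z, by rw [M.hf', hz₁, map_zero], rfl⟩
    have kP : RingHom.ker M.f'.hom ≤ RingHom.ker sP := fun y hy =>
      Ideal.Quotient.eq_zero_iff_mem.mpr ⟨y, hy, rfl⟩
    let tC : C ⟶ CommRingCat.of ((A ⊗[P] P') ⧸ J) :=
      CommRingCat.ofHom (M.p.hom.liftOfSurjective M.sq.surj ⟨sA, kA⟩)
    let tB : B' ⟶ CommRingCat.of ((A ⊗[P] P') ⧸ J) :=
      CommRingCat.ofHom (M.f'.hom.liftOfSurjective M.f'_surjective ⟨sP, kP⟩)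
    have hC : ∀ a, tC (M.p a) = sA a := fun a =>
      RingHom.liftOfSurjective_comp_apply M.p.hom M.sq.surj ⟨sA, kA⟩ a
    have hB : ∀ x, tB (M.f' x) = sP x := fun x =>
      RingHom.liftOfSurjective_comp_apply M.f'.hom M.f'_surjective ⟨sP, kP⟩ x
    have hw : M.φB ≫ tB = M.q ≫ tC := by
      ext b
      obtain ⟨z, rfl⟩ := M.f_surjective b
      show tB (M.φB (M.f z)) = tC (M.q (M.f z))
      rw [← M.hf', hB, show M.q (M.f z) = M.p (M.g z) from congr($(M.sq.w) z), hC, hagree]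
    let ψ := M.hq.desc tB tC hw
    have hψ : ∀ s, ψ (M.p' (Φ s)) = π s := fun s => by
      induction s with
      | zero => simp
      | tmul a x =>
        have e₁ : M.p' (M.φA a) = M.φC (M.p a) := congr($(M.hp.w) a)
        have e₂ : M.p' (M.g' x) = M.q' (M.f' x) := (congr($(M.sq'.w) x)).symm
        rw [Algebra.TensorProduct.productMap_apply_tmul, hα, hβ, map_mul, map_mul, e₁, e₂,
          show ψ (M.φC (M.p a)) = tC (M.p a) from congr($(M.hq.inr_desc tB tC hw) (M.p a)),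
          show ψ (M.q' (M.f' x)) = tB (M.f' x) from congr($(M.hq.inl_desc tB tC hw) (M.f' x)), hC, hB,
          show a ⊗ₜ[P] x = (a ⊗ₜ[P] (1 : P')) * ((1 : A) ⊗ₜ[P] x) by
            rw [Algebra.TensorProduct.tmul_mul_tmul, mul_one, one_mul], map_mul]
        rfl
      | add s t hs ht => rw [map_add, map_add, map_add, map_add, hs, ht]
    have ht' : π t = 0 := by rw [← hψ t, ht, map_zero, map_zero]
    obtain ⟨y, hy, rfl⟩ := Ideal.Quotient.eq_zero_iff_mem.mp ht'
    rw [Algebra.TensorProduct.productMap_apply_tmul, map_one, one_mul, hβ] at ht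
    rw [show y = 0 from M.ext' (hy.trans (map_zero M.f'.hom).symm) (ht.trans (map_zero M.g'.hom).symm),
      TensorProduct.tmul_zero]
  · have hle : M.φA.hom.range ⊔ M.g'.hom.range ≤ Φ.toRingHom.range := by
      refine sup_le ?_ ?_
      · rintro _ ⟨a, rfl⟩
        exact ⟨a ⊗ₜ 1, by simp [Φ, hα]⟩
      · rintro _ ⟨x, rfl⟩
        exact ⟨1 ⊗ₜ x, by simp [Φ, hβ]⟩
    rw [M.sup_range_eq_top] at hle
    exact hle (Subring.mem_top a')

theorem isPushout_left : IsPushout M.φP M.g M.g' M.φA := by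
  letI := M.g.hom.toAlgebra
  letI := M.φP.hom.toAlgebra
  letI := (M.φP ≫ M.g').hom.toAlgebra
  let α : A →ₐ[P] A' := { M.φA.hom with commutes' := fun z => (M.hg' z).symm }
  let β : P' →ₐ[P] A' := { M.g'.hom with commutes' := fun _ => rfl }
  let e := (RingEquiv.ofBijective (Algebra.TensorProduct.productMap α β)
    (M.bijective_tensor rfl rfl α β (fun _ => rfl) (fun _ => rfl))).toCommRingCatIso
  refine ((CommRingCat.isPushout_tensorProduct P A P').of_iso (Iso.refl _) (Iso.refl _) (Iso.refl _) e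
    ?_ ?_ ?_ ?_).flip
  · rfl
  · rfl
  · ext a
    exact (Algebra.TensorProduct.productMap_apply_tmul α β a 1).trans ((congrArg (α a * ·) (map_one β)).trans (mul_one _))
  · ext x
    exact (Algebra.TensorProduct.productMap_apply_tmul α β 1 x).trans ((congrArg (· * β x) (map_one α)).trans (one_mul _))

theorem finiteType_φP (hA : M.φA.hom.FiniteType) (hB : M.φB.hom.FiniteType) : M.φP.hom.FiniteType := by
  classical
  letI := M.φP.hom.toAlgebra
  letI := M.φA.hom.toAlgebra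
  letI := M.φB.hom.toAlgebra
  obtain ⟨tA, htA⟩ := (hA : Algebra.FiniteType A A').out
  obtain ⟨tB, htB⟩ := (hB : Algebra.FiniteType B B').out
  choose lB hlB using fun b : B' => M.f'_surjective b
  have key : ∀ a' : A', ∃ s : Finset P', a' ∈ M.φA.hom.range ⊔ Subring.closure (M.g' '' (s : Set P')) := by
    intro a'
    have hm : a' ∈ Subring.closure ((M.φA.hom.range : Set A') ∪ (M.g'.hom.range : Set A')) := by
      rw [Subring.closure_union, Subring.closure_eq, Subring.closure_eq, M.sup_range_eq_top]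
      exact Subring.mem_top a'
    have mono : ∀ {s t : Finset P'}, s ⊆ t →
        M.φA.hom.range ⊔ Subring.closure (M.g' '' (s : Set P')) ≤
          M.φA.hom.range ⊔ Subring.closure (M.g' '' (t : Set P')) := fun h =>
      sup_le_sup_left (Subring.closure_mono (Set.image_mono (Finset.coe_subset.mpr h))) _
    induction hm using Subring.closure_induction with
    | mem m hm =>
      rcases hm with hm | ⟨x, rfl⟩
      · exact ⟨∅, le_sup_left (α := Subring A') hm⟩
      · exact ⟨{x}, le_sup_right (α := Subring A') (Subring.subset_closure ⟨x, by simp, rfl⟩)⟩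
    | zero => exact ⟨∅, zero_mem _⟩
    | one => exact ⟨∅, one_mem _⟩
    | add m n _ _ hm hn =>
      obtain ⟨s, hs⟩ := hm
      obtain ⟨t, ht⟩ := hn
      exact ⟨s ∪ t, add_mem (mono Finset.subset_union_left hs) (mono Finset.subset_union_right ht)⟩
    | neg m _ hm =>
      obtain ⟨s, hs⟩ := hm
      exact ⟨s, neg_mem hs⟩
    | mul m n _ _ hm hn =>
      obtain ⟨s, hs⟩ := hm
      obtain ⟨t, ht⟩ := hn
      exact ⟨s ∪ t, mul_mem (mono Finset.subset_union_left hs) (mono Finset.subset_union_right ht)⟩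
  choose sA hsA using key
  refine ⟨⟨tA.biUnion sA ∪ tB.image lB, eq_top_iff.mpr fun x _ => ?_⟩⟩
  let S₁ : Subalgebra P P' := Algebra.adjoin P ((tA.biUnion sA ∪ tB.image lB : Finset P') : Set P')
  let S₀ : Subring P' := S₁.toSubring
  have hS₀ : ∀ z, M.φP z ∈ S₀ := fun z => S₁.algebraMap_mem z
  have hmem : ∀ y ∈ tA.biUnion sA ∪ tB.image lB, y ∈ S₀ := fun y hy => Algebra.subset_adjoin hy
  have hgen : M.φA.hom.range ⊔ S₀.map M.g'.hom = ⊤ := by
    refine eq_top_iff.mpr fun a _ => ?_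
    let T : Subalgebra A A' :=
      { (M.φA.hom.range ⊔ S₀.map M.g'.hom).toSubsemiring with
        algebraMap_mem' := fun r => le_sup_left (α := Subring A') ⟨r, rfl⟩ }
    have : Algebra.adjoin A (tA : Set A') ≤ T := Algebra.adjoin_le fun t ht => by
      refine (sup_le_sup_left ?_ _ : M.φA.hom.range ⊔ Subring.closure (M.g' '' (sA t : Set P')) ≤ _) (hsA t)
      rw [Subring.closure_le]
      rintro _ ⟨y, hy, rfl⟩
      exact ⟨y, hmem y (Finset.mem_union_left _ (Finset.mem_biUnion.mpr ⟨t, ht, hy⟩)), rfl⟩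
    exact this (htA.symm ▸ Algebra.mem_top)
  let T : Subalgebra B B' :=
    { (S₀.map M.f'.hom).toSubsemiring with
      algebraMap_mem' := fun r => by
        obtain ⟨z, rfl⟩ := M.f_surjective r
        exact ⟨M.φP z, hS₀ z, M.hf' z⟩ }
  have hB' : Algebra.adjoin B (tB : Set B') ≤ T := Algebra.adjoin_le fun t ht =>
    ⟨lB t, hmem _ (Finset.mem_union_right _ (Finset.mem_image_of_mem _ ht)), hlB t⟩
  obtain ⟨x₀, hx₀, he⟩ := hB' (htB.symm ▸ Algebra.mem_top : M.f' x ∈ Algebra.adjoin B (tB : Set B'))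
  have := (M.exists_mem_of_f'_eq_zero S₀ hS₀ hgen (x := x - x₀)
    (by rw [map_sub]; exact sub_eq_zero.mpr he.symm)).1
  have h := add_mem this hx₀
  rwa [sub_add_cancel] at h

theorem eq_of_comap_g_eq {u u' : PrimeSpectrum A} (hu : ¬ RingHom.ker M.p.hom ≤ u.asIdeal)
    (h : u.comap M.g.hom = u'.comap M.g.hom) : u = u' := by
  obtain ⟨κ, hκ, hκu⟩ := SetLike.not_le_iff_exists.mp hu
  have key : ∀ a : A, a * κ ∈ u.asIdeal ↔ a * κ ∈ u'.asIdeal := fun a => by
    obtain ⟨x, -, hx⟩ := M.exists_lift (κ := a * κ) (by rw [map_mul, show M.p κ = 0 from hκ, mul_zero])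
    have h' : x ∈ (u.comap M.g.hom).asIdeal ↔ x ∈ (u'.comap M.g.hom).asIdeal := by rw [h]
    change M.g x ∈ u.asIdeal ↔ M.g x ∈ u'.asIdeal at h'
    rwa [hx] at h'
  have hκu' : κ ∉ u'.asIdeal := fun h' => hκu (by
    have := (key 1).mpr (by rwa [one_mul])
    rwa [one_mul] at this)
  refine PrimeSpectrum.ext (Ideal.ext fun a => ⟨fun ha => ?_, fun ha => ?_⟩)
  · exact (u'.isPrime.mem_or_mem ((key a).mp (u.asIdeal.mul_mem_right κ ha))).resolve_right hκu'
  · exact (u.isPrime.mem_or_mem ((key a).mpr (u'.asIdeal.mul_mem_right κ ha))).resolve_right hκu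

theorem quasiFinite_φP (hA : M.φA.hom.FiniteType) (hB : M.φB.hom.FiniteType)
    (hA' : M.φA.hom.QuasiFinite) (hB' : M.φB.hom.QuasiFinite) : M.φP.hom.QuasiFinite := by
  have hP := M.finiteType_φP hA hB
  letI := M.φP.hom.toAlgebra
  letI := M.φA.hom.toAlgebra
  letI := M.φB.hom.toAlgebra
  haveI : Algebra.FiniteType P P' := hP
  haveI : Algebra.QuasiFinite A A' := hA'
  haveI : Algebra.QuasiFinite B B' := hB'
  refine Algebra.QuasiFinite.iff_finite_comap_preimage_singleton.mpr fun x => ?_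
  have hFB : (PrimeSpectrum.comap M.f.hom ⁻¹' {x}).Subsingleton := fun v hv v' hv' =>
    PrimeSpectrum.comap_injective_of_surjective _ M.f_surjective (hv.trans hv'.symm)
  have hFA : {u : PrimeSpectrum A | ¬ RingHom.ker M.p.hom ≤ u.asIdeal ∧ u.comap M.g.hom = x}.Subsingleton :=
    fun u hu u' hu' => M.eq_of_comap_g_eq hu.1 (hu.2.trans hu'.2.symm)
  refine (((Algebra.QuasiFinite.finite_comap_preimage (R := B) (S := B') hFB.finite).image
    (PrimeSpectrum.comap M.f'.hom)).union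
    ((Algebra.QuasiFinite.finite_comap_preimage (R := A) (S := A') hFA.finite).image
    (PrimeSpectrum.comap M.g'.hom))).subset fun w hw => ?_
  have hBpt : ∀ v, PrimeSpectrum.comap M.f'.hom v = w →
      w ∈ PrimeSpectrum.comap M.f'.hom '' (PrimeSpectrum.comap (algebraMap B B') ⁻¹' (PrimeSpectrum.comap M.f.hom ⁻¹' {x})) := by
    rintro v rfl
    refine ⟨v, ?_, rfl⟩
    show PrimeSpectrum.comap M.f.hom (PrimeSpectrum.comap M.φB.hom v) = x
    refine Eq.trans ?_ hw
    exact PrimeSpectrum.ext (Ideal.ext fun z => by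
      show M.φB (M.f z) ∈ v.asIdeal ↔ M.f' (M.φP z) ∈ v.asIdeal
      rw [M.hf'])
  rcases M.sq'.jointPair.surj w with ⟨v, hv⟩ | ⟨u, hu⟩
  · exact .inl (hBpt v hv)
  · by_cases hle : RingHom.ker M.p.hom ≤ (PrimeSpectrum.comap M.φA.hom u).asIdeal
    · have hu' : u ∈ Set.range (PrimeSpectrum.comap M.p'.hom) := by
        rw [range_comap_of_surjective _ _ M.sq'.surj]
        exact M.ker_p'_le.trans (Ideal.map_le_iff_le_comap.mpr hle)
      obtain ⟨z, rfl⟩ := hu'
      refine .inl (hBpt (PrimeSpectrum.comap M.q'.hom z) (Eq.trans ?_ hu))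
      exact PrimeSpectrum.ext (Ideal.ext fun y => by
        show M.q' (M.f' y) ∈ z.asIdeal ↔ M.p' (M.g' y) ∈ z.asIdeal
        rw [show M.q' (M.f' y) = M.p' (M.g' y) from congr($(M.sq'.w) y)])
    · refine .inr ⟨u, ⟨hle, ?_⟩, hu⟩
      refine Eq.trans ?_ hw
      rw [← hu]
      exact PrimeSpectrum.ext (Ideal.ext fun z => by
        show M.φA (M.g z) ∈ u.asIdeal ↔ M.g' (M.φP z) ∈ u.asIdeal
        rw [M.hg'])

end SquareMap

end GrothLib.Pushout6
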