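import Groth.Agent.Lib.Pushout6.Transfer
import Groth.Agent.Lib.Pushout6.RingFunctor
import Groth.Agent.Lib.Pushout6.PullbackCover
import Mathlib.AlgebraicGeometry.Morphisms.FiniteType
import Mathlib.AlgebraicGeometry.Morphisms.QuasiFinite
import Mathlib.AlgebraicGeometry.Morphisms.Flat

/-!
# Functoriality of pushouts for cartesian squares
-/

universe u

open CategoryTheory Limits AlgebraicGeometry Opposite TopologicalSpace

namespace GrothLib.Pushout6

noncomputable section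

variable {X Y Z X' Y' Z' : Scheme.{u}} {i : Z ⟶ X} {j : Z ⟶ Y} [IsClosedImmersion i]
  {i' : Z' ⟶ X'} {j' : Z' ⟶ Y'} [IsClosedImmersion i'] {fX : X' ⟶ X} {gY : Y' ⟶ Y} {hZ : Z' ⟶ Z}
  (hX : IsPullback hZ i' i fX) (hY : IsPullback hZ j' j gY)

section Pair

variable {c : Chart i j} {c' : Chart i' j'} (hU : c'.U ≤ fX ⁻¹ᵁ c.U) (hV : c'.V ≤ gY ⁻¹ᵁ c.V)

include hX hU in
omit [IsClosedImmersion i] [IsClosedImmersion i'] in
theorem trace_le : i' ⁻¹ᵁ c'.U ≤ hZ ⁻¹ᵁ (i ⁻¹ᵁ c.U) := fun z hz => by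
  show i (hZ z) ∈ c.U
  rw [show i (hZ z) = fX (i' z) from congr($(hX.w) z)]
  exact hU hz

/-- The map between the rings of two charts. -/
def ringMap : c.ring ⟶ c'.ring :=
  CommRingCat.ofHom ((((gY.appLE c.V c'.V hV).hom.comp c.f.hom).prod
    ((fX.appLE c.U c'.U hU).hom.comp c.g.hom)).codRestrict c'.sub fun x => by
      have e₁ : gY.appLE c.V c'.V hV ≫ c'.q = c.q ≫ hZ.appLE (i ⁻¹ᵁ c.U) (i' ⁻¹ᵁ c'.U) (trace_le hX hU) := by
        rw [Chart.q, Chart.q, Scheme.Hom.appLE_comp_appLE, Scheme.Hom.appLE_comp_appLE]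
        simp only [hY.w]
      have e₂ : fX.appLE c.U c'.U hU ≫ c'.p = c.p ≫ hZ.appLE (i ⁻¹ᵁ c.U) (i' ⁻¹ᵁ c'.U) (trace_le hX hU) := by
        rw [Chart.p, Chart.p, Scheme.Hom.appLE_comp_appLE, Scheme.Hom.appLE_comp_appLE]
        simp only [hX.w]
      show c'.q (gY.appLE c.V c'.V hV (c.f x)) = c'.p (fX.appLE c.U c'.U hU (c.g x))
      have h₁ := congr($e₁ (c.f x))
      have h₂ := congr($e₂ (c.g x))
      rw [CommRingCat.comp_apply, CommRingCat.comp_apply] at h₁ h₂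
      rw [h₁, h₂, c.w])

/-- The map of fibre squares of a pair of charts. -/
def squareMap : SquareMap c.ring Γ(X, c.U) Γ(Y, c.V) Γ(Z, i ⁻¹ᵁ c.U) c'.ring Γ(X', c'.U) Γ(Y', c'.V)
    Γ(Z', i' ⁻¹ᵁ c'.U) where
  f := c.f
  g := c.g
  q := c.q
  p := c.p
  f' := c'.f
  g' := c'.g
  q' := c'.q
  p' := c'.p
  φP := ringMap hX hY hU hV
  φA := fX.appLE c.U c'.U hU
  φB := gY.appLE c.V c'.V hV
  φC := hZ.appLE (i ⁻¹ᵁ c.U) (i' ⁻¹ᵁ c'.U) (trace_le hX hU)
  sq := c.fibreSquare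
  sq' := c'.fibreSquare
  hf := rfl
  hg := rfl
  hq := (isIso_pushoutSection_iff hY.flip c.trace.le hV (by
      rw [← c'.trace]
      exact (inf_eq_left.mpr (trace_le hX hU)).symm)).mp
    (isIso_pushoutSection_of_isAffineOpen hY.flip c.trace.le hV _ c.hV c.isAffineOpen_trace c'.hV)
  hp := (isIso_pushoutSection_iff hX.flip le_rfl hU (inf_eq_left.mpr (trace_le hX hU)).symm).mp
    (isIso_pushoutSection_of_isAffineOpen hX.flip le_rfl hU _ c.hU c.isAffineOpen_trace c'.hU)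

end Pair

variable (hC : Covered i j) (hC' : Covered i' j')

/-- The induced map of pushouts. -/
def mapObj : obj i' j' ⟶ obj i j :=
  (isPushout hC').desc (fX ≫ inl hC) (gY ≫ inr hC) (by
    rw [← Category.assoc, ← hX.w, ← Category.assoc, ← hY.w, Category.assoc, Category.assoc, condition hC])

theorem inl_mapObj : inl hC' ≫ mapObj hX hY hC hC' = fX ≫ inl hC := (isPushout hC').inl_desc _ _ _

theorem inr_mapObj : inr hC' ≫ mapObj hX hY hC hC' = gY ≫ inr hC := (isPushout hC').inr_desc _ _ _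

theorem chartι_mapObj {c : Chart i j} {c' : Chart i' j'} (hU : c'.U ≤ fX ⁻¹ᵁ c.U) (hV : c'.V ≤ gY ⁻¹ᵁ c.V) :
    chartι c' ≫ mapObj hX hY hC hC' = Spec.map (ringMap hX hY hU hV) ≫ chartι c := by
  refine c'.isPushout.hom_ext ?_ ?_
  · rw [← Category.assoc c'.α, ← fromSpec_inl hC', Category.assoc, inl_mapObj, ← Category.assoc,
      ← IsAffineOpen.SpecMap_appLE_fromSpec fX c.hU c'.hU hU, Category.assoc, fromSpec_inl, ← Category.assoc c'.α,
      Chart.α, Chart.α, ← Category.assoc, ← Spec.map_comp, ← Spec.map_comp]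
    rfl
  · rw [← Category.assoc c'.β, ← fromSpec_inr hC', Category.assoc, inr_mapObj, ← Category.assoc,
      ← IsAffineOpen.SpecMap_appLE_fromSpec gY c.hV c'.hV hV, Category.assoc, fromSpec_inr, ← Category.assoc c'.β,
      Chart.β, Chart.β, ← Category.assoc, ← Spec.map_comp, ← Spec.map_comp]
    rfl

include hX hY hC hC' in
theorem exists_pair (x : obj i' j') :
    ∃ (c : Chart i j) (c' : Chart i' j'), c'.U ≤ fX ⁻¹ᵁ c.U ∧ c'.V ≤ gY ⁻¹ᵁ c.V ∧
      x ∈ Set.range (chartι c') := by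
  obtain ⟨c, w, hw⟩ := exists_eq_chartι (mapObj hX hY hC hC' x)
  obtain ⟨c₀, w₀, rfl⟩ := exists_eq_chartι x
  have hO : i' ⁻¹ᵁ (fX ⁻¹ᵁ c.U) = j' ⁻¹ᵁ (gY ⁻¹ᵁ c.V) := by
    rw [← Scheme.Hom.comp_preimage, ← hX.w, Scheme.Hom.comp_preimage, c.trace, ← Scheme.Hom.comp_preimage,
      hY.w, Scheme.Hom.comp_preimage]
  have hgood : c₀.Good (fX ⁻¹ᵁ c.U) (gY ⁻¹ᵁ c.V) w₀ := by
    refine ⟨fun u hu => ?_, fun v hv => ?_⟩
    · show fX (c₀.hU.fromSpec u) ∈ c.U
      rw [← preimage_inl hC c]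
      refine ⟨w, ?_⟩
      rw [hw, ← hu, ← inl_apply hC']
      exact congr($(inl_mapObj hX hY hC hC') (c₀.hU.fromSpec u))
    · show gY (c₀.hV.fromSpec v) ∈ c.V
      rw [← preimage_inr hC c]
      refine ⟨w, ?_⟩
      rw [hw, ← hv, ← inr_apply hC']
      exact congr($(inr_mapObj hX hY hC hC') (c₀.hV.fromSpec v))
  obtain ⟨s, hsU, hsV, v, hv⟩ := Chart.exists_basic hO hgood
  exact ⟨c, c₀.basic s, hsU, hsV, v,
    (congr($(φ_chartι (c₀.basic_le s)) v)).symm.trans (congrArg (chartι c₀) hv)⟩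

/-- Pairs of compatible charts. -/
abbrev Pair (fX : X' ⟶ X) (gY : Y' ⟶ Y) :=
  { p : Chart i j × Chart i' j' // p.2.U ≤ fX ⁻¹ᵁ p.1.U ∧ p.2.V ≤ gY ⁻¹ᵁ p.1.V }

include hX hY hC hC' in
/-- The cover of the primed pushout by pairs of charts. -/
def pairCover : (obj i' j').OpenCover :=
  Scheme.Cover.mkOfCovers (P := @IsOpenImmersion) (Pair (i := i) (j := j) (i' := i') (j' := j') fX gY)
    (fun p => p.1.2.W) (fun p => chartι p.1.2)
    (fun x => by
      obtain ⟨c, c', hU, hV, w, hw⟩ := exists_pair hX hY hC hC' x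
      exact ⟨⟨(c, c'), hU, hV⟩, w, hw⟩)
    (fun _ => inferInstance)

theorem prop_mapObj (Q : MorphismProperty Scheme.{u}) [IsZariskiLocalAtSource Q] [Q.IsStableUnderComposition]
    (hQ : ∀ {U V : Scheme.{u}} (f : U ⟶ V) [IsOpenImmersion f], Q f)
    (h : ∀ (c : Chart i j) (c' : Chart i' j') (hU : c'.U ≤ fX ⁻¹ᵁ c.U) (hV : c'.V ≤ gY ⁻¹ᵁ c.V),
      Q (Spec.map (ringMap hX hY hU hV))) : Q (mapObj hX hY hC hC') := by
  refine IsZariskiLocalAtSource.of_openCover (P := Q) (pairCover hX hY hC hC') ?_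
  rintro ⟨⟨c, c'⟩, hU, hV⟩
  show Q (chartι c' ≫ mapObj hX hY hC hC')
  rw [chartι_mapObj hX hY hC hC' hU hV]
  exact Q.comp_mem _ _ (h c c' hU hV) (hQ _)

theorem locallyOfFiniteType_mapObj [LocallyOfFiniteType fX] [LocallyOfFiniteType gY] :
    LocallyOfFiniteType (mapObj hX hY hC hC') :=
  prop_mapObj hX hY hC hC' @LocallyOfFiniteType (fun f _ => inferInstance) fun c c' hU hV =>
    (HasRingHomProperty.Spec_iff (P := @LocallyOfFiniteType)).mpr <| (squareMap hX hY hU hV).finiteType_φP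
      (HasRingHomProperty.appLE @LocallyOfFiniteType fX inferInstance ⟨c.U, c.hU⟩ ⟨c'.U, c'.hU⟩ hU)
      (HasRingHomProperty.appLE @LocallyOfFiniteType gY inferInstance ⟨c.V, c.hV⟩ ⟨c'.V, c'.hV⟩ hV)

theorem locallyQuasiFinite_mapObj [LocallyOfFiniteType fX] [LocallyOfFiniteType gY] [LocallyQuasiFinite fX]
    [LocallyQuasiFinite gY] : LocallyQuasiFinite (mapObj hX hY hC hC') :=
  prop_mapObj hX hY hC hC' @LocallyQuasiFinite (fun f _ => inferInstance) fun c c' hU hV =>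
    (HasRingHomProperty.Spec_iff (P := @LocallyQuasiFinite)).mpr <| (squareMap hX hY hU hV).quasiFinite_φP
      (HasRingHomProperty.appLE @LocallyOfFiniteType fX inferInstance ⟨c.U, c.hU⟩ ⟨c'.U, c'.hU⟩ hU)
      (HasRingHomProperty.appLE @LocallyOfFiniteType gY inferInstance ⟨c.V, c.hV⟩ ⟨c'.V, c'.hV⟩ hV)
      (HasRingHomProperty.appLE @LocallyQuasiFinite fX inferInstance ⟨c.U, c.hU⟩ ⟨c'.U, c'.hU⟩ hU)
      (HasRingHomProperty.appLE @LocallyQuasiFinite gY inferInstance ⟨c.V, c.hV⟩ ⟨c'.V, c'.hV⟩ hV)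

theorem isPullback_inl_mapObj : IsPullback fX (inl hC') (inl hC) (mapObj hX hY hC hC') := by
  refine isPullback_of_cover (inl_mapObj hX hY hC hC').symm (pairCover hX hY hC hC') ?_
  rintro ⟨⟨c, c'⟩, hU, hV⟩
  refine ⟨Spec Γ(X', c'.U), c'.hU.fromSpec, c'.α,
    (IsOpenImmersion.isPullback _ _ _ _ (fromSpec_inl hC' c')
      (by rw [preimage_inl, c'.hU.opensRange_fromSpec])).flip, ?_⟩
  have hs := isPullback_SpecMap_of_isPushout _ _ _ _ (squareMap hX hY hU hV).isPushout_left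
  have hc : IsPullback c.α c.hU.fromSpec (chartι c) (inl hC) :=
    IsOpenImmersion.isPullback _ _ _ _ (fromSpec_inl hC c) (by rw [preimage_inl, c.hU.opensRange_fromSpec])
  have := hs.flip.paste_horiz hc.flip
  show IsPullback (c'.hU.fromSpec ≫ fX) c'.α (inl hC) (chartι c' ≫ mapObj hX hY hC hC')
  rw [chartι_mapObj hX hY hC hC' hU hV, ← IsAffineOpen.SpecMap_appLE_fromSpec fX c.hU c'.hU hU]
  exact this

theorem isPullback_inr_mapObj : IsPullback gY (inr hC') (inr hC) (mapObj hX hY hC hC') := by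
  refine isPullback_of_cover (inr_mapObj hX hY hC hC').symm (pairCover hX hY hC hC') ?_
  rintro ⟨⟨c, c'⟩, hU, hV⟩
  refine ⟨Spec Γ(Y', c'.V), c'.hV.fromSpec, c'.β,
    (IsOpenImmersion.isPullback _ _ _ _ (fromSpec_inr hC' c')
      (by rw [preimage_inr, c'.hV.opensRange_fromSpec])).flip, ?_⟩
  have hs := isPullback_SpecMap_of_isPushout _ _ _ _ (squareMap hX hY hU hV).isPushout_right
  have hc : IsPullback c.β c.hV.fromSpec (chartι c) (inr hC) :=
    IsOpenImmersion.isPullback _ _ _ _ (fromSpec_inr hC c) (by rw [preimage_inr, c.hV.opensRange_fromSpec])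
  have := hs.flip.paste_horiz hc.flip
  show IsPullback (c'.hV.fromSpec ≫ gY) c'.β (inr hC) (chartι c' ≫ mapObj hX hY hC hC')
  rw [chartι_mapObj hX hY hC hC' hU hV, ← IsAffineOpen.SpecMap_appLE_fromSpec gY c.hV c'.hV hV]
  exact this

theorem isSeparated_mapObj [IsIntegralHom j] [IsIntegralHom j'] [IsSeparated fX] [IsSeparated gY] :
    IsSeparated (mapObj hX hY hC hC') := by
  haveI := isIntegralHom_inl hC
  haveI := isIntegralHom_inl hC'
  haveI := isClosedImmersion_inr hC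
  haveI := isClosedImmersion_inr hC'
  exact isSeparated_of_cover (exists_inl_or_inr hC') (inl_mapObj hX hY hC hC') (inr_mapObj hX hY hC hC')

end

end GrothLib.Pushout6
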