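import Mathlib.RingTheory.QuasiFinite.Basic
import Mathlib.RingTheory.IntegralClosure.IsIntegral.Basic
import Mathlib.RingTheory.Ideal.Operations
import Mathlib.RingTheory.MvPolynomial.Basic

/-!
# Avoiding all primes over a point in an integral extension
-/

universe u

namespace GrothLib.Pushout6

/-- An element of `K` avoiding all primes lying over `y`. -/
theorem exists_avoid {B C R : Type u} [CommRing B] [CommRing C] [CommRing R] (φ : B →+* C) (hφ : φ.IsIntegral)
    (ψ : R →+* C) (K : Ideal R) (y : Ideal B) [y.IsPrime]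
    (h : ∀ Q : Ideal C, Q.IsPrime → Q.comap φ = y → ¬ K ≤ Q.comap ψ) :
    ∃ r ∈ K, ∀ Q : Ideal C, Q.IsPrime → Q.comap φ = y → ψ r ∉ Q := by
  letI := φ.toAlgebra
  haveI : Algebra.IsIntegral B C := ⟨hφ⟩
  let J : Ideal C := K.map ψ ⊔ y.map φ
  obtain ⟨c, hcJ, b, hb, hbc⟩ : ∃ c ∈ J, ∃ b, b ∉ y ∧ φ b = c := by
    by_contra hne
    push Not at hne
    obtain ⟨Q, hQ, hJQ, hdisj⟩ := Ideal.exists_le_prime_disjoint J (y.primeCompl.map φ.toMonoidHom)
      (Set.disjoint_left.mpr fun c hc ⟨b, hb, hbc⟩ => hne c hc b hb hbc)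
    refine h Q hQ (le_antisymm (fun b hb => ?_) ?_) ?_
    · by_contra hby
      exact Set.disjoint_left.mp hdisj hb ⟨b, hby, rfl⟩
    · exact Ideal.map_le_iff_le_comap.mp (le_sup_right.trans hJQ)
    · exact Ideal.map_le_iff_le_comap.mp (le_sup_left.trans hJQ)
  obtain ⟨e, he, e', he', hee⟩ := Submodule.mem_sup.mp hcJ
  obtain ⟨T, hT, heT⟩ := Submodule.mem_span_finite_of_mem_span he
  choose k hkK hk using fun c (hc : c ∈ T) => hT hc
  let kv : T → R := fun c => k c.1 c.2
  have key : ∀ Q : Ideal C, Q.IsPrime → Q.comap φ = y → ∃ c : T, ψ (kv c) ∉ Q := by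
    intro Q hQ hQy
    by_contra hall
    push Not at hall
    refine hb ?_
    rw [← hQy]
    show φ b ∈ Q
    rw [hbc, ← hee]
    refine Q.add_mem (Ideal.span_le.mpr (fun c hc => hk c hc ▸ hall ⟨c, hc⟩) heT) ?_
    exact Ideal.map_le_iff_le_comap.mpr hQy.ge he'
  let C₀ := Algebra.adjoin B (Set.range (ψ ∘ kv))
  haveI : Module.Finite B C₀ := Algebra.finite_adjoin_of_finite_of_isIntegral (Set.finite_range _)
    fun x _ => Algebra.IsIntegral.isIntegral x
  let ξ : MvPolynomial T ℤ →+* C₀ := MvPolynomial.eval₂Hom (Int.castRingHom C₀)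
    fun c => ⟨ψ (kv c), Algebra.subset_adjoin ⟨c, rfl⟩⟩
  let η : MvPolynomial T ℤ →+* R := MvPolynomial.eval₂Hom (Int.castRingHom R) kv
  have hηξ : ψ.comp η = C₀.val.toRingHom.comp ξ := by
    refine MvPolynomial.ringHom_ext (fun n => ?_) fun c => ?_
    · simp [ξ, η]
    · simp [ξ, η]
  classical
  let S := (Algebra.QuasiFinite.finite_primesOver (R := B) (S := C₀) y).toFinset.filter
    fun P => ¬ Ideal.span (Set.range MvPolynomial.X) ≤ P.comap ξ
  obtain ⟨G, hG, hGS⟩ : ∃ G ∈ Ideal.span (Set.range (MvPolynomial.X : T → MvPolynomial T ℤ)),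
      ∀ P ∈ S, ξ G ∉ P := by
    by_contra hne
    push Not at hne
    obtain ⟨P, hP, hle⟩ := (Ideal.subset_union_prime (s := S) (f := fun P => P.comap ξ) ⊥ ⊥
      (fun P hP _ _ => by
        haveI := ((Algebra.QuasiFinite.finite_primesOver (R := B) (S := C₀) y).mem_toFinset.mp
          (Finset.mem_of_mem_filter P hP)).1
        exact Ideal.comap_isPrime ξ P)).mp fun G hG => by
      obtain ⟨P, hP, hGP⟩ := hne G hG
      exact Set.mem_biUnion hP hGP
    exact (Finset.mem_filter.mp hP).2 hle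
  refine ⟨η G, ?_, fun Q hQ hQy => ?_⟩
  · have : Ideal.span (Set.range (MvPolynomial.X : T → MvPolynomial T ℤ)) ≤ K.comap η := by
      rw [Ideal.span_le]
      rintro _ ⟨c, rfl⟩
      show η (MvPolynomial.X c) ∈ K
      simp only [η, MvPolynomial.eval₂Hom_X']
      exact hkK c.1 c.2
    exact this hG
  · have hP : Q.comap C₀.val.toRingHom ∈ S := by
      refine Finset.mem_filter.mpr ⟨(Set.Finite.mem_toFinset _).mpr ⟨Ideal.comap_isPrime _ Q, ⟨?_⟩⟩, fun hle => ?_⟩
      · rw [← hQy]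
        rfl
      · obtain ⟨c, hc⟩ := key Q hQ hQy
        have := hle (Ideal.subset_span ⟨c, rfl⟩)
        simp only [Ideal.mem_comap, ξ, MvPolynomial.eval₂Hom_X'] at this
        exact hc this
    have := hGS _ hP
    rw [Ideal.mem_comap, show C₀.val.toRingHom (ξ G) = ψ (η G) from (congr($hηξ G)).symm] at this
    exact this

end GrothLib.Pushout6
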