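import Groth.Agent.Lib.Pushout6.Glue
import Groth.Agent.Lib.Pushout6.Avoid
import Groth.Agent.Lib.Thickening.Affine

/-!
# Existence of charts
-/

universe u

open CategoryTheory Limits AlgebraicGeometry Opposite TopologicalSpace

namespace GrothLib.Pushout6

noncomputable section

variable {X Y Z : Scheme.{u}} (i : Z ⟶ X) (j : Z ⟶ Y)

theorem exists_nhd_fibre_le (hj : IsClosedMap j) {W : Z.Opens} {y : Y} (hy : ∀ z, j z = y → z ∈ W) :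
    ∃ O : Y.Opens, y ∈ O ∧ j ⁻¹ᵁ O ≤ W :=
  ⟨⟨(j '' ((W : Set Z)ᶜ))ᶜ, (hj _ W.2.isClosed_compl).isOpen_compl⟩,
    fun ⟨z, hz, hzy⟩ => hz (hy z hzy), fun z hz => by_contra fun hzW => hz ⟨z, hzW, rfl⟩⟩

variable [IsClosedImmersion i]

theorem covered_of_thickening (hi : Function.Surjective i) [IsAffineHom j] : Covered i j := fun y => by
  obtain ⟨_, ⟨V, hV, rfl⟩, hyV, -⟩ :=
    Y.isBasis_affineOpens.exists_subset_of_mem_open (Set.mem_univ y) isOpen_univ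
  let U : X.Opens := ⟨(i '' ((j ⁻¹ᵁ V : Z.Opens) : Set Z)ᶜ)ᶜ,
    (i.isClosedEmbedding.isClosedMap _ (j ⁻¹ᵁ V).2.isClosed_compl).isOpen_compl⟩
  have htr : i ⁻¹ᵁ U = j ⁻¹ᵁ V := by
    ext z
    refine ⟨fun hz => by_contra fun hn => hz ⟨z, hn, rfl⟩, fun hz ⟨z', hz', he⟩ => hz' ?_⟩
    rw [i.isClosedEmbedding.injective he]
    exact hz
  haveI : Surjective i := ⟨hi⟩
  haveI : Surjective (i ∣_ U) := IsZariskiLocalAtTarget.restrict (P := @Surjective) inferInstance U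
  haveI : IsClosedImmersion (i ∣_ U) := IsZariskiLocalAtTarget.restrict (P := @IsClosedImmersion) inferInstance U
  haveI : IsAffine (i ⁻¹ᵁ U).toScheme := by
    rw [htr]
    exact hV.preimage j
  have hU : IsAffineOpen U := GrothLib.Thickening.isAffine_of_thickening (i ∣_ U)
  exact ⟨⟨U, V, hU, hV, htr⟩, hyV⟩

theorem covered_of_integral [IsIntegralHom j]
    (haff : ∀ y : Y, ∃ U : X.Opens, IsAffineOpen U ∧ j ⁻¹' {y} ⊆ i ⁻¹' (U : Set X)) : Covered i j := fun y => by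
  obtain ⟨U₁, hU₁, hy₁⟩ := haff y
  obtain ⟨O, hyO, hO⟩ := exists_nhd_fibre_le j (j.isClosedMap) (W := i ⁻¹ᵁ U₁) fun z hz => hy₁ hz
  obtain ⟨_, ⟨V, hV, rfl⟩, hyV, hVO⟩ := Y.isBasis_affineOpens.exists_subset_of_mem_open (u := (O : Set Y)) hyO O.2
  have hC : IsAffineOpen (j ⁻¹ᵁ V) := hV.preimage j
  have hVU : j ⁻¹ᵁ V ≤ i ⁻¹ᵁ U₁ := (Scheme.Hom.preimage_mono j hVO).trans hO
  let Ω : X.Opens := U₁ ⊓ ⟨(i '' ((j ⁻¹ᵁ V : Z.Opens) : Set Z)ᶜ)ᶜ,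
    (i.isClosedEmbedding.isClosedMap _ (j ⁻¹ᵁ V).2.isClosed_compl).isOpen_compl⟩
  have hΩ : i ⁻¹ᵁ Ω ≤ j ⁻¹ᵁ V := fun z hz => by_contra fun hn => hz.2 ⟨z, hn, rfl⟩
  have hΩ' : ∀ z, z ∈ j ⁻¹ᵁ V → i z ∈ Ω := fun z hz => ⟨hVU hz, fun ⟨z', hz', he⟩ =>
    hz' (i.isClosedEmbedding.injective he ▸ hz)⟩
  obtain ⟨K, hK⟩ := (PrimeSpectrum.isClosed_iff_zeroLocus_ideal _).mp
    ((hU₁.fromSpec ⁻¹ᵁ Ω).2.isClosed_compl : IsClosed (X := PrimeSpectrum Γ(X, U₁)) _)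
  obtain ⟨v, rfl⟩ := hV.range_fromSpec.superset hyV
  let φ : Γ(Y, V) ⟶ Γ(Z, j ⁻¹ᵁ V) := j.appLE V (j ⁻¹ᵁ V) le_rfl
  let ψ : Γ(X, U₁) ⟶ Γ(Z, j ⁻¹ᵁ V) := i.appLE U₁ (j ⁻¹ᵁ V) hVU
  have hφ : φ.hom.IsIntegral := by
    show (j.appLE V (j ⁻¹ᵁ V) le_rfl).hom.IsIntegral
    rw [← Scheme.Hom.app_eq_appLE]
    exact j.isIntegral_app V hV
  have hψΩ : ∀ w : Spec Γ(Z, j ⁻¹ᵁ V), hU₁.fromSpec (Spec.map ψ w) = i (hC.fromSpec w) := fun w =>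
    congr($(IsAffineOpen.SpecMap_appLE_fromSpec i hU₁ hC hVU) w)
  have hφv : ∀ w : Spec Γ(Z, j ⁻¹ᵁ V), hV.fromSpec (Spec.map φ w) = j (hC.fromSpec w) := fun w =>
    congr($(IsAffineOpen.SpecMap_appLE_fromSpec j hV hC le_rfl) w)
  obtain ⟨r, hrK, hr⟩ := exists_avoid φ.hom hφ ψ.hom K v.asIdeal fun Q hQ _ hKQ => by
    have hmem : (PrimeSpectrum.comap ψ.hom ⟨Q, hQ⟩) ∈ PrimeSpectrum.zeroLocus (K : Set Γ(X, U₁)) := hKQ
    rw [← hK] at hmem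
    refine hmem ?_
    show hU₁.fromSpec (Spec.map ψ (⟨Q, hQ⟩ : Spec Γ(Z, j ⁻¹ᵁ V))) ∈ Ω
    rw [hψΩ]
    exact hΩ' _ (hC.range_fromSpec.subset ⟨_, rfl⟩)
  let U' := X.basicOpen r
  have hU' : IsAffineOpen U' := hU₁.basicOpen r
  have hU'Ω : U' ≤ Ω := fun x hx => by
    obtain ⟨u, rfl⟩ := hU₁.range_fromSpec.superset (X.basicOpen_le r hx)
    by_contra hu
    exact (Chart.fromSpec_mem_basicOpen hU₁ r u).mp hx
      ((hK ▸ hu : u ∈ PrimeSpectrum.zeroLocus (K : Set Γ(X, U₁))) hrK)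
  have hU'V : i ⁻¹ᵁ U' ≤ j ⁻¹ᵁ V := (Scheme.Hom.preimage_mono i hU'Ω).trans hΩ
  have hfib : ∀ z, j z = hV.fromSpec v → z ∈ i ⁻¹ᵁ U' := fun z hz => by
    obtain ⟨w, rfl⟩ := hC.range_fromSpec.superset (show z ∈ j ⁻¹ᵁ V from by
      show j z ∈ V
      rw [hz]
      exact hV.range_fromSpec.subset ⟨v, rfl⟩)
    show i (hC.fromSpec w) ∈ X.basicOpen r
    rw [← hψΩ, Chart.fromSpec_mem_basicOpen]
    refine hr w.asIdeal w.isPrime ?_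
    exact congrArg PrimeSpectrum.asIdeal
      (hV.fromSpec.isOpenEmbedding.injective ((hφv w).trans hz) : Spec.map φ w = v)
  obtain ⟨O', hyO', hO'⟩ := exists_nhd_fibre_le j (j.isClosedMap) hfib
  obtain ⟨t, ht, hvt⟩ := hV.exists_basicOpen_le (V := O') ⟨_, hyO'⟩ hyV
  obtain ⟨a, ha⟩ := i.app_surjective U' hU' (j.appLE V (i ⁻¹ᵁ U') hU'V t)
  refine ⟨⟨X.basicOpen a, Y.basicOpen t, hU'.basicOpen a, hV.basicOpen t, ?_⟩, hvt⟩
  rw [Scheme.preimage_basicOpen, ha, Scheme.basicOpen_appLE]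
  exact inf_eq_right.mpr ((Scheme.Hom.preimage_mono j ht).trans hO')

theorem covered_of_affine_local {S : Scheme.{u}} (f : X ⟶ S) (t : Y ⟶ S) [IsAffineHom t]
    (hsq : i ≫ f = j ≫ t)
    (hstd : ∀ y : S, ∃ U : S.Opens, IsAffineOpen U ∧ y ∈ U ∧ ∃ V : X.Opens, IsAffineOpen V ∧
      V ≤ f ⁻¹ᵁ U ∧ ∀ z : Z, (j ≫ t).base z ∈ U → i.base z ∈ V) : Covered i j := fun y => by
  obtain ⟨U, hU, hyU, V, hV, hVU, hz⟩ := hstd (t y)
  refine ⟨⟨V, t ⁻¹ᵁ U, hV, hU.preimage t, ?_⟩, hyU⟩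
  refine le_antisymm (fun z h => ?_) fun z h => hz z h
  show (j ≫ t) z ∈ U
  rw [← hsq]
  exact hVU h

variable {i j}

theorem surjective_inr_of_surjective (hC : Covered i j) (hi : Function.Surjective i) :
    Function.Surjective (inr hC) := fun p => by
  rcases exists_inl_or_inr hC p with ⟨x, rfl⟩ | h
  · obtain ⟨z, rfl⟩ := hi x
    exact ⟨j z, (congr($(condition hC) z)).symm⟩
  · exact h

theorem isClosedImmersion_inl [IsClosedImmersion j] (hC : Covered i j) : IsClosedImmersion (inl hC) := by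
  refine prop_inl hC @IsClosedImmersion fun c => IsClosedImmersion.spec_of_surjective _ fun a => ?_
  have hq : Function.Surjective c.q.hom := by
    have e : c.q = j.app c.V ≫ Z.presheaf.map (eqToHom c.trace).op := by
      rw [Chart.q, Scheme.Hom.app_eq_appLE, Scheme.Hom.appLE_map]
    rw [e]
    exact (ConcreteCategory.bijective_of_isIso (Z.presheaf.map (eqToHom c.trace).op)).2.comp
      (j.app_surjective c.V c.hV)
  obtain ⟨b, hb⟩ := hq (c.p a)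
  exact ⟨c.pair b a hb, rfl⟩

end

end GrothLib.Pushout6
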