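import Groth.Agent.Lib.FiniteDescent.Flat
import Mathlib.RingTheory.Smooth.Fiber
import Mathlib.RingTheory.Kaehler.TensorProduct
import Mathlib.RingTheory.FinitePresentation
import Mathlib.RingTheory.TensorProduct.Maps

/-!
# Properties of an algebra over a ring glued from two quotients
-/

universe u

open scoped TensorProduct
open MvPolynomial (X C)

namespace GrothLib.Pushout6.Joint

variable {P A B S : Type u} [CommRing P] [CommRing A] [CommRing B] [CommRing S]
  [Algebra P A] [Algebra P B] [Algebra P S]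
  (hA : Function.Surjective (algebraMap P A)) (hB : Function.Surjective (algebraMap P B))
  (hj : ∀ x : P, algebraMap P A x = 0 → algebraMap P B x = 0 → x = 0)

include hj in
theorem mul_eq_zero_of_ker {x y : P} (hx : algebraMap P A x = 0) (hy : algebraMap P B y = 0) : x * y = 0 :=
  hj _ (by rw [map_mul, hx, zero_mul]) (by rw [map_mul, hy, mul_zero])

include hA hB hj in
theorem flat_of_joint [Module.Flat A (A ⊗[P] S)] [Module.Flat B (B ⊗[P] S)] : Module.Flat P S := by
  refine Module.Flat.iff_rTensor_injective'.mpr fun L => (injective_iff_map_eq_zero _).mpr fun t ht => ?_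
  let LB : Ideal B := L.map (algebraMap P B)
  let β : L →ₗ[P] LB :=
    { toFun := fun x => ⟨algebraMap P B x, Ideal.mem_map_of_mem _ x.2⟩
      map_add' := fun x y => Subtype.ext (map_add _ _ _)
      map_smul' := fun r x => Subtype.ext (by simp [Algebra.smul_def]) }
  have hβ : Function.Surjective β := fun ⟨y, hy⟩ => by
    obtain ⟨x, hx, rfl⟩ := (Ideal.mem_map_iff_of_surjective _ hB).mp hy
    exact ⟨⟨x, hx⟩, rfl⟩
  have hβt : β.rTensor S t = 0 := by
    refine FiniteDescent.rTensor_ideal_injective (R := P) (S := B) (M := S) LB ?_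
    rw [map_zero, ← LinearMap.rTensor_comp_apply,
      show LB.subtype.restrictScalars P ∘ₗ β = Algebra.linearMap P B ∘ₗ L.subtype from rfl,
      LinearMap.rTensor_comp_apply, ht, map_zero]
  let K : Submodule P L := LinearMap.ker β
  obtain ⟨t₀, rfl⟩ := (rTensor_exact S (LinearMap.exact_subtype_ker_map β) hβ t).mp hβt
  let N : Ideal P := Submodule.map L.subtype K
  let LA : Ideal A := N.map (algebraMap P A)
  let α : K →ₗ[P] LA :=
    { toFun := fun x => ⟨algebraMap P A x.1.1, Ideal.mem_map_of_mem _ ⟨x.1, x.2, rfl⟩⟩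
      map_add' := fun x y => Subtype.ext (map_add _ _ _)
      map_smul' := fun r x => Subtype.ext (by simp [Algebra.smul_def]) }
  have hα : Function.Bijective α := by
    refine ⟨fun x y h => ?_, fun ⟨z, hz⟩ => ?_⟩
    · have h₁ : algebraMap P A x.1.1 = algebraMap P A y.1.1 := congrArg Subtype.val h
      have h₂ : algebraMap P B x.1.1 = algebraMap P B y.1.1 :=
        (congrArg Subtype.val (LinearMap.mem_ker.mp x.2)).trans (congrArg Subtype.val (LinearMap.mem_ker.mp y.2)).symm
      exact Subtype.ext (Subtype.ext (sub_eq_zero.mp (hj _ (by rw [map_sub, h₁, sub_self]) (by rw [map_sub, h₂, sub_self]))))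
    · obtain ⟨_, ⟨x, hx, rfl⟩, rfl⟩ := (Ideal.mem_map_iff_of_surjective _ hA).mp hz
      exact ⟨⟨x, hx⟩, rfl⟩
  have hαt : α.rTensor S t₀ = 0 := by
    refine FiniteDescent.rTensor_ideal_injective (R := P) (S := A) (M := S) LA ?_
    rw [map_zero, ← LinearMap.rTensor_comp_apply,
      show LA.subtype.restrictScalars P ∘ₗ α = Algebra.linearMap P A ∘ₗ (L.subtype ∘ₗ K.subtype) from rfl,
      LinearMap.rTensor_comp_apply, LinearMap.rTensor_comp_apply, ht, map_zero]
  have : t₀ = 0 := (LinearEquiv.rTensor S (LinearEquiv.ofBijective α hα)).injective (hαt.trans (map_zero _).symm)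
  rw [this, map_zero]

section FP

variable {n : ℕ} (π : MvPolynomial (Fin n) P →ₐ[P] S) (hπ : Function.Surjective π)

include hπ in
theorem exists_fg_map_eq (D : Type u) [CommRing D] [Algebra P D] (hD : Function.Surjective (algebraMap P D))
    [Algebra.FinitePresentation D (D ⊗[P] S)] :
    ∃ K₀ : Ideal (MvPolynomial (Fin n) P), K₀.FG ∧ K₀ ≤ RingHom.ker π.toRingHom ∧
      (RingHom.ker π.toRingHom).map (MvPolynomial.map (algebraMap P D)) ≤ K₀.map (MvPolynomial.map (algebraMap P D)) := by
  let K := RingHom.ker π.toRingHom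
  let μ := MvPolynomial.map (σ := Fin n) (algebraMap P D)
  let πD : MvPolynomial (Fin n) D →ₐ[D] D ⊗[P] S := MvPolynomial.aeval fun k => (1 : D) ⊗ₜ[P] π (X k)
  have hcomp : ∀ m, πD (μ m) = (1 : D) ⊗ₜ[P] π m := by
    intro m
    induction m using MvPolynomial.induction_on with
    | C r =>
      rw [MvPolynomial.map_C, MvPolynomial.aeval_C, ← MvPolynomial.algebraMap_eq, AlgHom.commutes,
        Algebra.algebraMap_eq_smul_one (R := P) (A := S), TensorProduct.tmul_smul, TensorProduct.smul_tmul',
        ← Algebra.algebraMap_eq_smul_one]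
      rfl
    | add p q hp hq => rw [map_add, map_add, hp, hq, map_add, TensorProduct.tmul_add]
    | mul_X p k hp =>
      rw [map_mul, map_mul, hp, MvPolynomial.map_X, MvPolynomial.aeval_X, map_mul,
        Algebra.TensorProduct.tmul_mul_tmul, one_mul]
  have hsurj : Function.Surjective πD := by
    intro t
    induction t with
    | zero => exact ⟨0, map_zero _⟩
    | tmul d s =>
      obtain ⟨m, rfl⟩ := hπ s
      refine ⟨C d * μ m, ?_⟩
      rw [map_mul, hcomp, MvPolynomial.aeval_C, Algebra.TensorProduct.algebraMap_apply,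
        Algebra.TensorProduct.tmul_mul_tmul, one_mul]
      simp
    | add x y hx hy =>
      obtain ⟨a, rfl⟩ := hx
      obtain ⟨b, rfl⟩ := hy
      exact ⟨a + b, map_add _ _ _⟩
  have hker : RingHom.ker πD.toRingHom ≤ K.map μ := by
    let Q := MvPolynomial (Fin n) D ⧸ K.map μ
    let σ : MvPolynomial (Fin n) P →ₐ[P] Q :=
      { (Ideal.Quotient.mk (K.map μ)).comp μ with
        commutes' := fun r => by
          show Ideal.Quotient.mk (K.map μ) (μ (C r)) = _
          rw [MvPolynomial.map_C]
          rfl }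
    have hσ : RingHom.ker π ≤ RingHom.ker σ := fun m hm =>
      Ideal.Quotient.eq_zero_iff_mem.mpr (Ideal.mem_map_of_mem μ hm)
    let sS : S →ₐ[P] Q := AlgHom.liftOfSurjective π hπ σ hσ
    let θ : D ⊗[P] S →ₐ[D] Q := Algebra.TensorProduct.lift (Algebra.ofId D Q) sS fun _ _ => Commute.all _ _
    have hθ : θ.comp πD = Ideal.Quotient.mkₐ D (K.map μ) := MvPolynomial.algHom_ext fun k => by
      show θ (πD (X k)) = _
      rw [MvPolynomial.aeval_X, Algebra.TensorProduct.lift_tmul, map_one, one_mul,
        AlgHom.liftOfSurjective_apply]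
      show Ideal.Quotient.mk (K.map μ) (μ (X k)) = _
      rw [MvPolynomial.map_X]
      rfl
    intro m hm
    refine Ideal.Quotient.eq_zero_iff_mem.mp ?_
    have := congr($hθ m)
    rw [AlgHom.comp_apply, show πD m = 0 from hm, map_zero] at this
    exact this.symm
  obtain ⟨s, hs⟩ := Algebra.FinitePresentation.ker_fG_of_surjective πD hsurj
  classical
  have hsK : ∀ e ∈ s, ∃ k ∈ K, μ k = e := fun e he =>
    (Ideal.mem_map_iff_of_surjective μ (MvPolynomial.map_surjective _ hD)).mp
      (hker (hs ▸ Ideal.subset_span he))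
  choose k hkK hk using hsK
  refine ⟨Ideal.span (s.attach.image fun e => k e.1 e.2 : Finset _), ⟨_, rfl⟩, ?_, ?_⟩
  · rw [Ideal.span_le]
    intro y hy
    obtain ⟨e, -, rfl⟩ := Finset.mem_image.mp hy
    exact hkK _ _
  · refine Ideal.map_le_iff_le_comap.mpr fun m hm => ?_
    have hm' : μ m ∈ Ideal.span (s : Set (MvPolynomial (Fin n) D)) := by
      rw [show Ideal.span (s : Set (MvPolynomial (Fin n) D)) = RingHom.ker πD.toRingHom from hs]
      show πD (μ m) = 0
      rw [hcomp, show π m = 0 from hm, TensorProduct.tmul_zero]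
    show μ m ∈ Ideal.map μ _
    refine (Ideal.span_le.mpr fun e he => ?_ : Ideal.span (s : Set _) ≤ Ideal.map μ _) hm'
    rw [← hk e he]
    exact Ideal.mem_map_of_mem _ (Ideal.subset_span (Finset.mem_image.mpr ⟨⟨e, he⟩, Finset.mem_attach _ _, rfl⟩))

include hπ in
theorem mem_smul_ker [Module.Flat P S] {I : Ideal P} {m : MvPolynomial (Fin n) P} (hm : π m = 0)
    (hI : m ∈ I.map (C : P →+* MvPolynomial (Fin n) P)) :
    m ∈ I.map (C : P →+* MvPolynomial (Fin n) P) * RingHom.ker π.toRingHom := by
  let K := RingHom.ker π.toRingHom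
  let M := MvPolynomial (Fin n) P
  let lidM : I ⊗[P] M →ₗ[P] M := (TensorProduct.lid P M).toLinearMap ∘ₗ I.subtype.rTensor M
  obtain ⟨t, ht⟩ : ∃ t, lidM t = m := by
    clear hm
    induction hI using Submodule.span_induction with
    | mem x hx =>
      obtain ⟨r, hr, rfl⟩ := hx
      exact ⟨⟨r, hr⟩ ⊗ₜ[P] (1 : M), by simp [lidM, M, Algebra.smul_def, MvPolynomial.algebraMap_eq]⟩
    | zero => exact ⟨0, map_zero _⟩
    | add x y _ _ hx hy =>
      obtain ⟨a, rfl⟩ := hx
      obtain ⟨b, rfl⟩ := hy
      exact ⟨a + b, map_add _ _ _⟩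
    | smul a x _ hx =>
      obtain ⟨t, rfl⟩ := hx
      refine ⟨(LinearMap.mulLeft P a).lTensor I t, ?_⟩
      clear * -
      induction t with
      | zero => simp
      | tmul r y => simp [lidM, Algebra.smul_def]; ring
      | add x y hx hy => rw [map_add, map_add, hx, hy, map_add, smul_add]
  have h0 : π.toLinearMap.lTensor I t = 0 := by
    refine Module.Flat.rTensor_preserves_injective_linearMap (M := S) I.subtype I.injective_subtype ?_
    apply (TensorProduct.lid P S).injective
    rw [map_zero, map_zero]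
    refine Eq.trans ?_ hm
    rw [← ht]
    clear * -
    induction t with
    | zero => simp
    | tmul r y => simp [lidM]
    | add x y hx hy => simp only [map_add, hx, hy]
  let Kι : LinearMap.ker π.toLinearMap →ₗ[P] M := (LinearMap.ker π.toLinearMap).subtype
  obtain ⟨t', rfl⟩ := (lTensor_exact I (LinearMap.exact_subtype_ker_map π.toLinearMap) hπ t).mp h0
  rw [← ht]
  clear * -
  induction t' with
  | zero => simp
  | tmul r y =>
    simp only [lidM, LinearMap.lTensor_tmul, LinearMap.comp_apply, LinearMap.rTensor_tmul]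
    show ((r : P) • (y.1 : M)) ∈ _
    rw [Algebra.smul_def]
    exact Ideal.mul_mem_mul (Ideal.mem_map_of_mem _ r.2) y.2
  | add x y hx hy => rw [map_add, map_add]; exact add_mem hx hy

end FP

include hA hB hj in
theorem finitePresentation_of_joint [Module.Flat P S] [Algebra.FiniteType P S]
    [Algebra.FinitePresentation A (A ⊗[P] S)] [Algebra.FinitePresentation B (B ⊗[P] S)] :
    Algebra.FinitePresentation P S := by
  obtain ⟨n, π, hπ⟩ := Algebra.FiniteType.iff_quotient_mvPolynomial''.mp ‹Algebra.FiniteType P S›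
  obtain ⟨KA, hKA, hAK, hAeq⟩ := exists_fg_map_eq π hπ A hA
  obtain ⟨KB, hKB, hBK, hBeq⟩ := exists_fg_map_eq π hπ B hB
  let K := RingHom.ker π.toRingHom
  let IA : Ideal (MvPolynomial (Fin n) P) := (RingHom.ker (algebraMap P A)).map C
  let IB : Ideal (MvPolynomial (Fin n) P) := (RingHom.ker (algebraMap P B)).map C
  have step : ∀ (D : Type u) [CommRing D] [Algebra P D], Function.Surjective (algebraMap P D) →
      ∀ K₀ : Ideal (MvPolynomial (Fin n) P), K₀ ≤ K →
      K.map (MvPolynomial.map (algebraMap P D)) ≤ K₀.map (MvPolynomial.map (algebraMap P D)) →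
      K ≤ K₀ ⊔ (RingHom.ker (algebraMap P D)).map C * K := by
    intro D _ _ hD K₀ hK₀ heq m hm
    obtain ⟨k, hk, hke⟩ := (Ideal.mem_map_iff_of_surjective (MvPolynomial.map (algebraMap P D))
      (MvPolynomial.map_surjective _ hD)).mp (heq (Ideal.mem_map_of_mem _ hm))
    rw [← sub_add_cancel m k, add_comm]
    refine Submodule.add_mem_sup hk (mem_smul_ker π hπ ?_ ?_)
    · rw [map_sub, show π m = 0 from hm, show π k = 0 from hK₀ hk, sub_zero]
    · rw [← MvPolynomial.ker_map]
      show MvPolynomial.map (algebraMap P D) (m - k) = 0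
      rw [map_sub, hke, sub_self]
  have hprod : IA * IB = ⊥ := by
    rw [← Ideal.map_mul, show RingHom.ker (algebraMap P A) * RingHom.ker (algebraMap P B) = ⊥ from
      le_bot_iff.mp (Ideal.mul_le.mpr fun x hx y hy => (Submodule.mem_bot P).mpr (mul_eq_zero_of_ker hj hx hy)),
      Ideal.map_bot]
  have h₁ := step A hA KA hAK hAeq
  have h₂ := step B hB KB hBK hBeq
  have h₃ : IB * K ≤ KA ⊔ KB := by
    refine (Ideal.mul_mono_right h₁).trans ?_
    show IB * (KA ⊔ IA * K) ≤ _
    rw [Ideal.mul_sup, ← mul_assoc IB IA K, mul_comm IB IA, hprod, Ideal.bot_mul, sup_bot_eq]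
    exact Ideal.mul_le_right.trans le_sup_left
  have hKeq : K = KA ⊔ KB :=
    le_antisymm (h₂.trans (sup_le le_sup_right h₃)) (sup_le hAK hBK)
  exact Algebra.FinitePresentation.of_surjective hπ (by
    rw [show RingHom.ker π.toRingHom = KA ⊔ KB from hKeq]
    exact Submodule.FG.sup hKA hKB)

include hj in
theorem ker_le_or (I : Ideal P) [I.IsPrime] :
    RingHom.ker (algebraMap P A) ≤ I ∨ RingHom.ker (algebraMap P B) ≤ I := by
  by_contra hn
  push Not at hn
  obtain ⟨x, hx, hxI⟩ := SetLike.not_le_iff_exists.mp hn.1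
  obtain ⟨y, hy, hyI⟩ := SetLike.not_le_iff_exists.mp hn.2
  have : x * y ∈ I := by rw [mul_eq_zero_of_ker hj hx hy]; exact I.zero_mem
  exact (‹I.IsPrime›.mem_or_mem this).elim hxI hyI

theorem formallySmooth_fiber {D : Type u} [CommRing D] [Algebra P D] (hD : Function.Surjective (algebraMap P D))
    [Algebra.FormallySmooth D (D ⊗[P] S)] (I : Ideal P) [I.IsPrime] (hI : RingHom.ker (algebraMap P D) ≤ I) :
    Algebra.FormallySmooth I.ResidueField (I.Fiber S) := by
  let τ : D →+* I.ResidueField := (algebraMap P D).liftOfSurjective hD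
    ⟨algebraMap P I.ResidueField, fun x hx => by
      rw [RingHom.mem_ker, Ideal.algebraMap_residueField_eq_zero]
      exact hI hx⟩
  letI := τ.toAlgebra
  haveI : IsScalarTower P D I.ResidueField :=
    .of_algebraMap_eq fun x => (RingHom.liftOfSurjective_comp_apply (algebraMap P D) hD
      ⟨algebraMap P I.ResidueField, _⟩ x).symm
  exact Algebra.FormallySmooth.of_equiv
    (Algebra.TensorProduct.cancelBaseChange P D I.ResidueField I.ResidueField S)

include hA hB hj in
theorem smooth_of_joint [Module.Flat P S] [Algebra.FinitePresentation P S]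
    [Algebra.FormallySmooth A (A ⊗[P] S)] [Algebra.FormallySmooth B (B ⊗[P] S)] : Algebra.Smooth P S :=
  Algebra.Smooth.of_formallySmooth_fiber fun I _ =>
    (ker_le_or hj I).elim (formallySmooth_fiber hA I) (formallySmooth_fiber hB I)

theorem kaehler_le_smul {D : Type u} [CommRing D] [Algebra P D] (hD : Function.Surjective (algebraMap P D))
    [Algebra.FormallyUnramified D (D ⊗[P] S)] (x : Ω[S⁄P]) :
    x ∈ RingHom.ker (algebraMap P D) • (⊤ : Submodule P (Ω[S⁄P])) := by
  letI : Algebra S (D ⊗[P] S) := Algebra.TensorProduct.rightAlgebra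
  haveI : Subsingleton (D ⊗[P] Ω[S⁄P]) :=
    (KaehlerDifferential.tensorKaehlerEquivBase P D S (D ⊗[P] S)).injective.subsingleton
  let J := RingHom.ker (algebraMap P D)
  let e : (P ⧸ J) ≃ₐ[P] D := Ideal.quotientKerAlgEquivOfSurjective (f := Algebra.ofId P D) hD
  let ψ := (TensorProduct.congr e.toLinearEquiv (LinearEquiv.refl P (Ω[S⁄P]))).symm.trans
    (TensorProduct.quotTensorEquivQuotSMul (Ω[S⁄P]) J)
  haveI : Subsingleton (Ω[S⁄P] ⧸ (J • ⊤ : Submodule P (Ω[S⁄P]))) := ψ.symm.injective.subsingleton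
  exact (Submodule.Quotient.mk_eq_zero _).mp (Subsingleton.elim _ _)

include hA hB hj in
theorem formallyUnramified_of_joint [Algebra.FormallyUnramified A (A ⊗[P] S)]
    [Algebra.FormallyUnramified B (B ⊗[P] S)] : Algebra.FormallyUnramified P S := by
  refine ⟨subsingleton_of_forall_eq 0 fun x => ?_⟩
  have h₁ : (⊤ : Submodule P (Ω[S⁄P])) ≤ RingHom.ker (algebraMap P A) • ⊤ := fun x _ => kaehler_le_smul hA x
  have h₂ : (⊤ : Submodule P (Ω[S⁄P])) ≤ RingHom.ker (algebraMap P B) • ⊤ := fun x _ => kaehler_le_smul hB x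
  have h₃ := h₁.trans (Submodule.smul_mono le_rfl h₂)
  rw [← Submodule.mul_smul, show RingHom.ker (algebraMap P A) * RingHom.ker (algebraMap P B) = ⊥ from
    le_bot_iff.mp (Ideal.mul_le.mpr fun a ha b hb => (Submodule.mem_bot P).mpr (mul_eq_zero_of_ker hj ha hb)),
    Submodule.bot_smul] at h₃
  exact (Submodule.mem_bot P).mp (h₃ (Submodule.mem_top : x ∈ ⊤))

end GrothLib.Pushout6.Joint
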