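import Groth.Agent.Lib.Pushout6.Functorial
import Groth.Agent.Lib.Pushout6.Joint
import Groth.Agent.Lib.Pushout6.FiniteSet
import Mathlib.AlgebraicGeometry.Morphisms.Smooth
import Mathlib.AlgebraicGeometry.Morphisms.Etale
import Mathlib.AlgebraicGeometry.Morphisms.FinitePresentation

/-!
# Morphisms between pushouts of pairs of closed immersions
-/

universe u

open CategoryTheory Limits AlgebraicGeometry Opposite TopologicalSpace
open scoped TensorProduct

namespace GrothLib.Pushout6

theorem prop_includeLeft {Q : ∀ {R S : Type u} [CommRing R] [CommRing S], (R →+* S) → Prop}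
    (hQ : RingHom.RespectsIso Q) {P D P' D' : CommRingCat.{u}} [Algebra P D] [Algebra P P']
    {φ : P ⟶ P'} {k : P ⟶ D} {k' : P' ⟶ D'} {φD : D ⟶ D'} (h : IsPushout φ k k' φD)
    (hk : k.hom = algebraMap P D) (hφ : φ.hom = algebraMap P P') (hD : Q φD.hom) :
    Q (Algebra.TensorProduct.includeLeftRingHom : D →+* D ⊗[P] P') := by
  have hk' : k = CommRingCat.ofHom (algebraMap P D) := CommRingCat.hom_ext hk
  have hφ' : φ = CommRingCat.ofHom (algebraMap P P') := CommRingCat.hom_ext hφ
  subst hk' hφ'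
  let e := (CommRingCat.isPushout_tensorProduct P D P').isoIsPushout _ _ h.flip
  have he : φD ≫ e.inv = CommRingCat.ofHom Algebra.TensorProduct.includeLeftRingHom :=
    (CommRingCat.isPushout_tensorProduct P D P').inl_isoIsPushout_inv _ _ h.flip
  have := hQ.1 φD.hom e.commRingCatIsoToRingEquiv.symm hD
  rw [show (Algebra.TensorProduct.includeLeftRingHom : D →+* D ⊗[P] P') =
    e.commRingCatIsoToRingEquiv.symm.toRingHom.comp φD.hom from (congrArg CommRingCat.Hom.hom he).symm]
  exact this

namespace SquareMap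

variable {P A B C P' A' B' C' : CommRingCat.{u}} (M : SquareMap P A B C P' A' B' C')

theorem g_surjective (hq : Function.Surjective M.q) : Function.Surjective M.g := fun a => by
  obtain ⟨b, hb⟩ := hq (M.p a)
  obtain ⟨x, -, hx⟩ := M.sq.ex b a hb
  exact ⟨x, hx⟩

variable (hq : Function.Surjective M.q)

include hq

theorem flat_φP (hA : M.φA.hom.Flat) (hB : M.φB.hom.Flat) : M.φP.hom.Flat := by
  algebraize [M.φP.hom, M.f.hom, M.g.hom]
  have h₁ := prop_includeLeft RingHom.Flat.respectsIso M.isPushout_left rfl rfl hA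
  have h₂ := prop_includeLeft RingHom.Flat.respectsIso M.isPushout_right rfl rfl hB
  haveI : Module.Flat A (A ⊗[P] P') := RingHom.flat_algebraMap_iff.mp h₁
  haveI : Module.Flat B (B ⊗[P] P') := RingHom.flat_algebraMap_iff.mp h₂
  exact Joint.flat_of_joint (A := A) (B := B) (M.g_surjective hq) M.f_surjective fun x h h' => M.sq.inj x h' h

theorem finitePresentation_φP (hA : M.φA.hom.FinitePresentation) (hB : M.φB.hom.FinitePresentation)
    (hA' : M.φA.hom.Flat) (hB' : M.φB.hom.Flat) : M.φP.hom.FinitePresentation := by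
  have hfl := M.flat_φP hq hA' hB'
  have hft := M.finiteType_φP (RingHom.FiniteType.of_finitePresentation hA)
    (RingHom.FiniteType.of_finitePresentation hB)
  algebraize [M.φP.hom, M.f.hom, M.g.hom]
  haveI : Module.Flat P P' := hfl
  haveI : Algebra.FiniteType P P' := hft
  haveI : Algebra.FinitePresentation A (A ⊗[P] P') := RingHom.finitePresentation_algebraMap.mp
    (prop_includeLeft RingHom.finitePresentation_respectsIso M.isPushout_left rfl rfl hA)
  haveI : Algebra.FinitePresentation B (B ⊗[P] P') := RingHom.finitePresentation_algebraMap.mp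
    (prop_includeLeft RingHom.finitePresentation_respectsIso M.isPushout_right rfl rfl hB)
  exact Joint.finitePresentation_of_joint (A := A) (B := B) (M.g_surjective hq) M.f_surjective
    fun x h h' => M.sq.inj x h' h

theorem smooth_φP (hA : M.φA.hom.Smooth) (hB : M.φB.hom.Smooth) : M.φP.hom.Smooth := by
  have hfp := M.finitePresentation_φP hq hA.finitePresentation hB.finitePresentation hA.flat hB.flat
  have hfl := M.flat_φP hq hA.flat hB.flat
  algebraize [M.φP.hom, M.f.hom, M.g.hom]
  haveI : Module.Flat P P' := hfl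
  haveI : Algebra.FinitePresentation P P' := hfp
  haveI : Algebra.Smooth A (A ⊗[P] P') := RingHom.smooth_algebraMap.mp
    (prop_includeLeft RingHom.Smooth.respectsIso M.isPushout_left rfl rfl hA)
  haveI : Algebra.Smooth B (B ⊗[P] P') := RingHom.smooth_algebraMap.mp
    (prop_includeLeft RingHom.Smooth.respectsIso M.isPushout_right rfl rfl hB)
  exact Joint.smooth_of_joint (A := A) (B := B) (M.g_surjective hq) M.f_surjective fun x h h' => M.sq.inj x h' h

theorem etale_φP (hA : M.φA.hom.Etale) (hB : M.φB.hom.Etale) : M.φP.hom.Etale := by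
  obtain ⟨hAu, hAs⟩ := (RingHom.etale_iff_formallyUnramified_and_smooth _).mp hA
  obtain ⟨hBu, hBs⟩ := (RingHom.etale_iff_formallyUnramified_and_smooth _).mp hB
  refine (RingHom.etale_iff_formallyUnramified_and_smooth _).mpr ⟨?_, M.smooth_φP hq hAs hBs⟩
  algebraize [M.φP.hom, M.f.hom, M.g.hom]
  haveI : Algebra.FormallyUnramified A (A ⊗[P] P') := RingHom.formallyUnramified_algebraMap.mp
    (prop_includeLeft RingHom.FormallyUnramified.respectsIso M.isPushout_left rfl rfl hAu)
  haveI : Algebra.FormallyUnramified B (B ⊗[P] P') := RingHom.formallyUnramified_algebraMap.mp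
    (prop_includeLeft RingHom.FormallyUnramified.respectsIso M.isPushout_right rfl rfl hBu)
  exact Joint.formallyUnramified_of_joint (A := A) (B := B) (M.g_surjective hq) M.f_surjective
    fun x h h' => M.sq.inj x h' h

end SquareMap

section Global

variable {X Y Z X' Y' Z' : Scheme.{u}} {i : Z ⟶ X} {j : Z ⟶ Y} [IsClosedImmersion i] [IsClosedImmersion j]
  {i' : Z' ⟶ X'} {j' : Z' ⟶ Y'} [IsClosedImmersion i'] {fX : X' ⟶ X} {gY : Y' ⟶ Y} {hZ : Z' ⟶ Z}
  (hX : IsPullback hZ i' i fX) (hY : IsPullback hZ j' j gY) (hC : Covered i j) (hC' : Covered i' j')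

theorem Chart.q_surjective (c : Chart i j) : Function.Surjective c.q := by
  have e : c.q = j.app c.V ≫ Z.presheaf.map (eqToHom c.trace).op := by
    rw [Chart.q, Scheme.Hom.app_eq_appLE, Scheme.Hom.appLE_map]
  rw [e]
  exact (ConcreteCategory.bijective_of_isIso (Z.presheaf.map (eqToHom c.trace).op)).2.comp
    (j.app_surjective c.V c.hV)

theorem flat_mapObj [Flat fX] [Flat gY] : Flat (mapObj hX hY hC hC') :=
  prop_mapObj hX hY hC hC' @Flat (fun _ _ => inferInstance) fun c c' hU hV =>
    (HasRingHomProperty.Spec_iff (P := @Flat)).mpr <| (squareMap hX hY hU hV).flat_φP c.q_surjective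
      (HasRingHomProperty.appLE @Flat fX inferInstance ⟨c.U, c.hU⟩ ⟨c'.U, c'.hU⟩ hU)
      (HasRingHomProperty.appLE @Flat gY inferInstance ⟨c.V, c.hV⟩ ⟨c'.V, c'.hV⟩ hV)

theorem locallyOfFinitePresentation_mapObj [Flat fX] [Flat gY] [LocallyOfFinitePresentation fX]
    [LocallyOfFinitePresentation gY] : LocallyOfFinitePresentation (mapObj hX hY hC hC') :=
  prop_mapObj hX hY hC hC' @LocallyOfFinitePresentation (fun _ _ => inferInstance) fun c c' hU hV =>
    (HasRingHomProperty.Spec_iff (P := @LocallyOfFinitePresentation)).mpr <|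
      (squareMap hX hY hU hV).finitePresentation_φP c.q_surjective
      (HasRingHomProperty.appLE @LocallyOfFinitePresentation fX inferInstance ⟨c.U, c.hU⟩ ⟨c'.U, c'.hU⟩ hU)
      (HasRingHomProperty.appLE @LocallyOfFinitePresentation gY inferInstance ⟨c.V, c.hV⟩ ⟨c'.V, c'.hV⟩ hV)
      (HasRingHomProperty.appLE @Flat fX inferInstance ⟨c.U, c.hU⟩ ⟨c'.U, c'.hU⟩ hU)
      (HasRingHomProperty.appLE @Flat gY inferInstance ⟨c.V, c.hV⟩ ⟨c'.V, c'.hV⟩ hV)

theorem smooth_mapObj [Smooth fX] [Smooth gY] : Smooth (mapObj hX hY hC hC') :=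
  prop_mapObj hX hY hC hC' @Smooth (fun _ _ => inferInstance) fun c c' hU hV =>
    (HasRingHomProperty.Spec_iff (P := @Smooth)).mpr <| (squareMap hX hY hU hV).smooth_φP c.q_surjective
      (HasRingHomProperty.appLE @Smooth fX inferInstance ⟨c.U, c.hU⟩ ⟨c'.U, c'.hU⟩ hU)
      (HasRingHomProperty.appLE @Smooth gY inferInstance ⟨c.V, c.hV⟩ ⟨c'.V, c'.hV⟩ hV)

theorem etale_mapObj [Etale fX] [Etale gY] : Etale (mapObj hX hY hC hC') :=
  prop_mapObj hX hY hC hC' @Etale (fun _ _ => inferInstance) fun c c' hU hV =>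
    (HasRingHomProperty.Spec_iff (P := @Etale)).mpr <| (squareMap hX hY hU hV).etale_φP c.q_surjective
      (HasRingHomProperty.appLE @Etale fX inferInstance ⟨c.U, c.hU⟩ ⟨c'.U, c'.hU⟩ hU)
      (HasRingHomProperty.appLE @Etale gY inferInstance ⟨c.V, c.hV⟩ ⟨c'.V, c'.hV⟩ hV)

variable {P P' : Scheme.{u}} {a : X ⟶ P} {b : Y ⟶ P} {a' : X' ⟶ P'} {b' : Y' ⟶ P'}

omit [IsClosedImmersion j] in
theorem prop_iff_mapObj (Q : MorphismProperty Scheme.{u}) [Q.RespectsIso] (hP : IsPushout i j a b)
    (hP' : IsPushout i' j' a' b') (h : P' ⟶ P) (ha : a' ≫ h = fX ≫ a) (hb : b' ≫ h = gY ≫ b) :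
    Q h ↔ Q (mapObj hX hY hC hC') := by
  have : mapObj hX hY hC hC' ≫ (objIso hC hP).hom = (objIso hC' hP').hom ≫ h := by
    refine hom_ext hC' ?_ ?_
    · rw [← Category.assoc, inl_mapObj, Category.assoc, inl_objIso, ← Category.assoc (inl hC'), inl_objIso, ha]
    · rw [← Category.assoc, inr_mapObj, Category.assoc, inr_objIso, ← Category.assoc (inr hC'), inr_objIso, hb]
  rw [← Q.cancel_left_of_respectsIso (objIso hC' hP').hom h, ← this, Q.cancel_right_of_respectsIso]

omit [IsClosedImmersion j] in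
theorem prop_of_mapObj (Q : MorphismProperty Scheme.{u}) [Q.IsStableUnderBaseChange]
    (h : Q (mapObj hX hY hC hC')) : Q fX ∧ Q gY :=
  ⟨MorphismProperty.of_isPullback (isPullback_inl_mapObj hX hY hC hC').flip h,
    MorphismProperty.of_isPullback (isPullback_inr_mapObj hX hY hC hC').flip h⟩

end Global

end GrothLib.Pushout6
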