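import Groth.Agent.Lib.Pushout6.Local
import Mathlib.AlgebraicGeometry.Gluing
import Mathlib.AlgebraicGeometry.Limits
import Mathlib.AlgebraicGeometry.Morphisms.Integral
import Mathlib.RingTheory.IntegralClosure.IsIntegral.Basic

/-!
# The pushout of a closed immersion and a morphism, glued from charts
-/

universe u

open CategoryTheory Limits AlgebraicGeometry Opposite TopologicalSpace

namespace GrothLib.Pushout6

noncomputable section

variable {X Y Z : Scheme.{u}} (i : Z ⟶ X) (j : Z ⟶ Y)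

/-- Every point of `Y` lies in a chart. -/
def Covered : Prop := ∀ y : Y, ∃ c : Chart i j, y ∈ c.V

/-- The diagram of charts. -/
def diagram : Chart i j ⥤ Scheme.{u} where
  obj c := c.W
  map f := Chart.φ (leOfHom f)
  map_id c := Chart.φ_refl c
  map_comp f g := (Chart.φ_comp (leOfHom g) (leOfHom f)).symm

variable [IsClosedImmersion i]

instance {c d : Chart i j} (f : c ⟶ d) : IsOpenImmersion ((diagram i j).map f) :=
  Chart.isOpenImmersion_φ (leOfHom f)

instance : ((diagram i j) ⋙ Scheme.forget).IsLocallyDirected := by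
  constructor
  intro a b k fa fb xa xb hxy
  let ha : a ≤ k := leOfHom fa
  let hb : b ≤ k := leOfHom fb
  have hxy' : Chart.φ ha xa = Chart.φ hb xb := hxy
  obtain ⟨l, hla, hlb, hlk, z, hz⟩ := Chart.exists_inf (Chart.good_φ ha xa)
    (hxy' ▸ Chart.good_φ hb xb : k.Good b.U b.V (Chart.φ ha xa))
  refine ⟨l, homOfLE hla, homOfLE hlb, z, ?_, ?_⟩
  · exact Chart.φ_injective ha ((congr($(Chart.φ_comp ha hla) z)).trans hz)
  · exact Chart.φ_injective hb ((congr($(Chart.φ_comp hb hlb) z)).trans (hz.trans hxy'))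

/-- The pushout. -/
def obj : Scheme.{u} := colimit (diagram i j)

variable {i j}

/-- The chart map into the pushout. -/
def chartι (c : Chart i j) : c.W ⟶ obj i j := colimit.ι (diagram i j) c

instance (c : Chart i j) : IsOpenImmersion (chartι c) :=
  inferInstanceAs (IsOpenImmersion (colimit.ι (diagram i j) c))

theorem φ_chartι {d c : Chart i j} (h : d ≤ c) : Chart.φ h ≫ chartι c = chartι d :=
  colimit.w (diagram i j) (homOfLE h)

theorem exists_eq_chartι (x : obj i j) : ∃ (c : Chart i j) (w : c.W), chartι c w = x :=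
  Scheme.IsLocallyDirected.ι_jointly_surjective (diagram i j) x

theorem exists_of_chartι_eq {c c' : Chart i j} {w : c.W} {w' : c'.W} (h : chartι c w = chartι c' w') :
    ∃ (k : Chart i j) (hk : k ≤ c) (hk' : k ≤ c') (z : k.W), Chart.φ hk z = w ∧ Chart.φ hk' z = w' := by
  obtain ⟨k, f, f', z, h₁, h₂⟩ := (Scheme.IsLocallyDirected.ι_eq_ι_iff (diagram i j)).mp h
  exact ⟨k, leOfHom f, leOfHom f', z, h₁, h₂⟩

theorem exists_chart_X (hC : Covered i j) (x : X) : ∃ c : Chart i j, x ∈ c.U := by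
  by_cases hx : x ∈ Set.range i
  · obtain ⟨z, rfl⟩ := hx
    obtain ⟨c, hc⟩ := hC (j z)
    exact ⟨c, show z ∈ i ⁻¹ᵁ c.U by rw [c.trace]; exact hc⟩
  · obtain ⟨_, ⟨U, hU, rfl⟩, hxU, hUs⟩ := X.isBasis_affineOpens.exists_subset_of_mem_open
      (show x ∈ (Set.range i)ᶜ from hx) i.isClosedEmbedding.isClosed_range.isOpen_compl
    refine ⟨⟨U, ⊥, hU, isAffineOpen_bot Y, ?_⟩, hxU⟩
    rw [Scheme.Hom.preimage_bot]
    exact le_bot_iff.mp fun z hz => ((hUs hz : i z ∈ (Set.range i)ᶜ) ⟨z, rfl⟩).elim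

/-- The cover of `X` by charts. -/
def coverX (hC : Covered i j) : X.OpenCover :=
  Scheme.Cover.mkOfCovers (P := @IsOpenImmersion) (Chart i j) (fun c => Spec Γ(X, c.U))
    (fun c => c.hU.fromSpec)
    (fun x => (exists_chart_X hC x).elim fun c hc => ⟨c, c.hU.range_fromSpec.superset hc⟩)
    (fun _ => inferInstance)

/-- The cover of `Y` by charts. -/
def coverY (hC : Covered i j) : Y.OpenCover :=
  Scheme.Cover.mkOfCovers (P := @IsOpenImmersion) (Chart i j) (fun c => Spec Γ(Y, c.V))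
    (fun c => c.hV.fromSpec)
    (fun y => (hC y).elim fun c hc => ⟨c, c.hV.range_fromSpec.superset hc⟩)
    (fun _ => inferInstance)

theorem α_chartι {T : Scheme.{u}} {c c' : Chart i j} (s : T ⟶ Spec Γ(X, c.U)) (t : T ⟶ Spec Γ(X, c'.U))
    (hst : s ≫ c.hU.fromSpec = t ≫ c'.hU.fromSpec) : s ≫ c.α ≫ chartι c = t ≫ c'.α ≫ chartι c' := by
  apply Scheme.hom_ext_of_forall
  intro z
  have hs : c.hU.fromSpec (s z) ∈ c.U := c.hU.range_fromSpec.subset ⟨s z, rfl⟩
  have ht : c.hU.fromSpec (s z) ∈ c'.U :=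
    (congr($hst z) : c.hU.fromSpec (s z) = c'.hU.fromSpec (t z)) ▸ c'.hU.range_fromSpec.subset ⟨t z, rfl⟩
  have hO : i ⁻¹ᵁ (c.U ⊓ c'.U) = j ⁻¹ᵁ (c.V ⊓ c'.V) := by
    rw [Scheme.Hom.preimage_inf, Scheme.Hom.preimage_inf, c.trace, c'.trace]
  obtain ⟨r, hrU, hrV, w, hw⟩ := Chart.exists_basic hO (Chart.good_of_α (u := s z) hO ⟨hs, ht⟩)
  have hd : c.hU.fromSpec (s z) ∈ (c.basic r).U := (hw ▸ Chart.good_φ (c.basic_le r) w).left _ rfl
  have h₂ : c.basic r ≤ c' := ⟨hrU.trans inf_le_right, hrV.trans inf_le_right⟩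
  refine ⟨(s ≫ c.hU.fromSpec) ⁻¹ᵁ (c.basic r).U, hd, ?_⟩
  let O := (s ≫ c.hU.fromSpec) ⁻¹ᵁ (c.basic r).U
  let m := IsOpenImmersion.lift (c.basic r).hU.fromSpec (O.ι ≫ s ≫ c.hU.fromSpec) (by
    rw [IsAffineOpen.range_fromSpec]
    rintro _ ⟨y, rfl⟩
    exact y.2)
  have h₁ : O.ι ≫ s = m ≫ Spec.map (Chart.resA (c.basic_le r)) := by
    rw [← cancel_mono c.hU.fromSpec, Category.assoc, Category.assoc, Chart.resA_fromSpec,
      IsOpenImmersion.lift_fac]
  have h₁' : O.ι ≫ t = m ≫ Spec.map (Chart.resA h₂) := by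
    rw [← cancel_mono c'.hU.fromSpec, Category.assoc, Category.assoc, Chart.resA_fromSpec,
      IsOpenImmersion.lift_fac, hst]
  change O.ι ≫ s ≫ c.α ≫ chartι c = O.ι ≫ t ≫ c'.α ≫ chartι c'
  rw [reassoc_of% h₁, reassoc_of% h₁', ← Category.assoc (Spec.map _) c.α, ← Chart.α_φ,
    ← Category.assoc (Spec.map _) c'.α, ← Chart.α_φ, Category.assoc, Category.assoc, φ_chartι, φ_chartι]

theorem β_chartι {T : Scheme.{u}} {c c' : Chart i j} (s : T ⟶ Spec Γ(Y, c.V)) (t : T ⟶ Spec Γ(Y, c'.V))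
    (hst : s ≫ c.hV.fromSpec = t ≫ c'.hV.fromSpec) : s ≫ c.β ≫ chartι c = t ≫ c'.β ≫ chartι c' := by
  apply Scheme.hom_ext_of_forall
  intro z
  have hs : c.hV.fromSpec (s z) ∈ c.V := c.hV.range_fromSpec.subset ⟨s z, rfl⟩
  have ht : c.hV.fromSpec (s z) ∈ c'.V :=
    (congr($hst z) : c.hV.fromSpec (s z) = c'.hV.fromSpec (t z)) ▸ c'.hV.range_fromSpec.subset ⟨t z, rfl⟩
  have hO : i ⁻¹ᵁ (c.U ⊓ c'.U) = j ⁻¹ᵁ (c.V ⊓ c'.V) := by
    rw [Scheme.Hom.preimage_inf, Scheme.Hom.preimage_inf, c.trace, c'.trace]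
  obtain ⟨r, hrU, hrV, w, hw⟩ := Chart.exists_basic hO (Chart.good_of_β (v := s z) hO ⟨hs, ht⟩)
  have hd : c.hV.fromSpec (s z) ∈ (c.basic r).V := (hw ▸ Chart.good_φ (c.basic_le r) w).right _ rfl
  have h₂ : c.basic r ≤ c' := ⟨hrU.trans inf_le_right, hrV.trans inf_le_right⟩
  refine ⟨(s ≫ c.hV.fromSpec) ⁻¹ᵁ (c.basic r).V, hd, ?_⟩
  let O := (s ≫ c.hV.fromSpec) ⁻¹ᵁ (c.basic r).V
  let m := IsOpenImmersion.lift (c.basic r).hV.fromSpec (O.ι ≫ s ≫ c.hV.fromSpec) (by
    rw [IsAffineOpen.range_fromSpec]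
    rintro _ ⟨y, rfl⟩
    exact y.2)
  have h₁ : O.ι ≫ s = m ≫ Spec.map (Chart.resB (c.basic_le r)) := by
    rw [← cancel_mono c.hV.fromSpec, Category.assoc, Category.assoc, Chart.resB_fromSpec,
      IsOpenImmersion.lift_fac]
  have h₁' : O.ι ≫ t = m ≫ Spec.map (Chart.resB h₂) := by
    rw [← cancel_mono c'.hV.fromSpec, Category.assoc, Category.assoc, Chart.resB_fromSpec,
      IsOpenImmersion.lift_fac, hst]
  change O.ι ≫ s ≫ c.β ≫ chartι c = O.ι ≫ t ≫ c'.β ≫ chartι c'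
  rw [reassoc_of% h₁, reassoc_of% h₁', ← Category.assoc (Spec.map _) c.β, ← Chart.β_φ,
    ← Category.assoc (Spec.map _) c'.β, ← Chart.β_φ, Category.assoc, Category.assoc, φ_chartι, φ_chartι]

/-- The map from `X` to the pushout. -/
def inl (hC : Covered i j) : X ⟶ obj i j :=
  (coverX hC).glueMorphisms (fun c => c.α ≫ chartι c) fun _ _ => α_chartι _ _ pullback.condition

/-- The map from `Y` to the pushout. -/
def inr (hC : Covered i j) : Y ⟶ obj i j :=
  (coverY hC).glueMorphisms (fun c => c.β ≫ chartι c) fun _ _ => β_chartι _ _ pullback.condition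

variable (hC : Covered i j)

theorem fromSpec_inl (c : Chart i j) : c.hU.fromSpec ≫ inl hC = c.α ≫ chartι c :=
  (coverX hC).ι_glueMorphisms _ _ c

theorem fromSpec_inr (c : Chart i j) : c.hV.fromSpec ≫ inr hC = c.β ≫ chartι c :=
  (coverY hC).ι_glueMorphisms _ _ c

theorem inl_apply (c : Chart i j) (u : Spec Γ(X, c.U)) : inl hC (c.hU.fromSpec u) = chartι c (c.α u) :=
  congr($(fromSpec_inl hC c) u)

theorem inr_apply (c : Chart i j) (v : Spec Γ(Y, c.V)) : inr hC (c.hV.fromSpec v) = chartι c (c.β v) :=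
  congr($(fromSpec_inr hC c) v)

theorem exists_inl_or_inr (p : obj i j) : (∃ x, inl hC x = p) ∨ ∃ y, inr hC y = p := by
  obtain ⟨c, w, rfl⟩ := exists_eq_chartι p
  rcases c.surj w with ⟨u, rfl⟩ | ⟨v, rfl⟩
  · exact .inl ⟨_, inl_apply hC c u⟩
  · exact .inr ⟨_, inr_apply hC c v⟩

theorem preimage_inl (c : Chart i j) : inl hC ⁻¹ᵁ (chartι c).opensRange = c.U := by
  ext x
  refine ⟨fun ⟨w, hw⟩ => ?_, fun hx => ?_⟩
  · obtain ⟨c', hc'⟩ := exists_chart_X hC x
    obtain ⟨u, rfl⟩ := c'.hU.range_fromSpec.superset hc'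
    obtain ⟨k, hk, hk', z, -, hz⟩ := exists_of_chartι_eq (hw.trans (inl_apply hC c' u))
    exact Chart.le_U hk ((hz ▸ Chart.good_φ hk' z).left _ rfl)
  · obtain ⟨u, rfl⟩ := c.hU.range_fromSpec.superset hx
    exact ⟨_, (inl_apply hC c u).symm⟩

theorem preimage_inr (c : Chart i j) : inr hC ⁻¹ᵁ (chartι c).opensRange = c.V := by
  ext y
  refine ⟨fun ⟨w, hw⟩ => ?_, fun hy => ?_⟩
  · obtain ⟨c', hc'⟩ := hC y
    obtain ⟨v, rfl⟩ := c'.hV.range_fromSpec.superset hc'
    obtain ⟨k, hk, hk', z, -, hz⟩ := exists_of_chartι_eq (hw.trans (inr_apply hC c' v))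
    exact Chart.le_V hk ((hz ▸ Chart.good_φ hk' z).right _ rfl)
  · obtain ⟨v, rfl⟩ := c.hV.range_fromSpec.superset hy
    exact ⟨_, (inr_apply hC c v).symm⟩

theorem prop_inl (P : MorphismProperty Scheme.{u}) [IsZariskiLocalAtTarget P]
    (h : ∀ c : Chart i j, P c.α) : P (inl hC) := by
  refine IsZariskiLocalAtTarget.of_openCover (Scheme.IsLocallyDirected.openCover (diagram i j)) fun c => ?_
  have hpb : IsPullback c.α c.hU.fromSpec (chartι c) (inl hC) :=
    IsOpenImmersion.isPullback _ _ _ _ (fromSpec_inl hC c) (by rw [preimage_inl, c.hU.opensRange_fromSpec])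
  refine (P.cancel_left_of_respectsIso hpb.flip.isoPullback.hom _).mp ?_
  change P (hpb.flip.isoPullback.hom ≫ pullback.snd (inl hC) (chartι c))
  rw [IsPullback.isoPullback_hom_snd]
  exact h c

theorem prop_inr (P : MorphismProperty Scheme.{u}) [IsZariskiLocalAtTarget P]
    (h : ∀ c : Chart i j, P c.β) : P (inr hC) := by
  refine IsZariskiLocalAtTarget.of_openCover (Scheme.IsLocallyDirected.openCover (diagram i j)) fun c => ?_
  have hpb : IsPullback c.β c.hV.fromSpec (chartι c) (inr hC) :=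
    IsOpenImmersion.isPullback _ _ _ _ (fromSpec_inr hC c) (by rw [preimage_inr, c.hV.opensRange_fromSpec])
  refine (P.cancel_left_of_respectsIso hpb.flip.isoPullback.hom _).mp ?_
  change P (hpb.flip.isoPullback.hom ≫ pullback.snd (inr hC) (chartι c))
  rw [IsPullback.isoPullback_hom_snd]
  exact h c

theorem isClosedImmersion_inr : IsClosedImmersion (inr hC) :=
  prop_inr hC @IsClosedImmersion fun _ => inferInstance

theorem isAffineHom_inl : IsAffineHom (inl hC) :=
  prop_inl hC @IsAffineHom fun c => inferInstanceAs (IsAffineHom (Spec.map c.g))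

theorem isIntegralHom_inl [IsIntegralHom j] : IsIntegralHom (inl hC) := by
  refine prop_inl hC @IsIntegralHom fun c => ?_
  refine (IsIntegralHom.SpecMap_iff (φ := c.g)).mpr fun a => ?_
  have hq : c.q.hom.IsIntegral := by
    have e : c.q = j.app c.V ≫ Z.presheaf.map (eqToHom c.trace).op := by
      rw [Chart.q, Scheme.Hom.app_eq_appLE, Scheme.Hom.appLE_map]
    rw [e]
    exact RingHom.IsIntegral.trans _ _ (j.isIntegral_app c.V c.hV)
      (RingHom.isIntegral_of_surjective _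
        (ConcreteCategory.bijective_of_isIso (Z.presheaf.map (eqToHom c.trace).op)).2)
  obtain ⟨P, hPm, hP⟩ := hq (c.p a)
  obtain ⟨Q, hQ, hQm⟩ : ∃ Q : Polynomial c.ring, Q.map c.f.hom = P ∧ Q.Monic := by
    rcases subsingleton_or_nontrivial Γ(Y, c.V) with hB | hB
    · exact ⟨1, Subsingleton.elim _ _, Polynomial.monic_one⟩
    · obtain ⟨Q, hQ, -, hQm⟩ := Polynomial.lifts_and_degree_eq_and_monic
        ((Polynomial.mem_lifts P).mpr (Polynomial.map_surjective c.f.hom c.f_surjective P)) hPm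
      exact ⟨Q, hQ, hQm⟩
  rcases subsingleton_or_nontrivial c.ring with hR | hR
  · refine ⟨1, Polynomial.monic_one, ?_⟩
    rw [Polynomial.eval₂_one, ← map_one c.g.hom, Subsingleton.elim (1 : c.ring) 0, map_zero]
  have hQX : (Q * Polynomial.X).Monic := hQm.mul Polynomial.monic_X
  have hdeg : 0 < (Q * Polynomial.X).natDegree := by
    rw [hQm.natDegree_mul Polynomial.monic_X, Polynomial.natDegree_X]
    omega
  have hker : c.p ((Q * Polynomial.X).eval₂ c.g.hom a) = 0 := by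
    have e : c.p.hom.comp c.g.hom = c.q.hom.comp c.f.hom := RingHom.ext fun x => (c.w x).symm
    show c.p.hom ((Q * Polynomial.X).eval₂ c.g.hom a) = 0
    rw [Polynomial.hom_eval₂, e, ← Polynomial.eval₂_map, Polynomial.map_mul, hQ, Polynomial.eval₂_mul, hP,
      zero_mul]
  obtain ⟨x, -, hx⟩ := c.exists_f_zero hker
  refine ⟨Q * Polynomial.X - Polynomial.C x, hQX.sub_of_left ?_, ?_⟩
  · refine Polynomial.degree_C_le.trans_lt ?_
    rw [Polynomial.degree_eq_natDegree hQX.ne_zero]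
    exact WithBot.coe_pos.mpr hdeg
  · rw [Polynomial.eval₂_sub, Polynomial.eval₂_C]
    exact sub_eq_zero.mpr hx.symm

theorem condition : i ≫ inl hC = j ≫ inr hC := by
  apply Scheme.hom_ext_of_forall
  intro z
  obtain ⟨c, hc⟩ := hC (j z)
  refine ⟨i ⁻¹ᵁ c.U, show z ∈ i ⁻¹ᵁ c.U by rw [c.trace]; exact hc, ?_⟩
  let hC' := c.isAffineOpen_trace
  rw [← cancel_epi hC'.isoSpec.inv, ← Category.assoc, ← Category.assoc _ _ (j ≫ _),
    IsAffineOpen.isoSpec_inv_ι, ← Category.assoc, ← Category.assoc _ j,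
    ← IsAffineOpen.SpecMap_appLE_fromSpec i c.hU hC' le_rfl,
    ← IsAffineOpen.SpecMap_appLE_fromSpec j c.hV hC' c.trace.le, Category.assoc, Category.assoc,
    fromSpec_inl hC, fromSpec_inr hC, ← Category.assoc, ← Category.assoc _ c.β]
  exact congrArg (· ≫ chartι c) c.isPushout.w

theorem hom_ext {T : Scheme.{u}} {l₁ l₂ : obj i j ⟶ T} (h₁ : inl hC ≫ l₁ = inl hC ≫ l₂)
    (h₂ : inr hC ≫ l₁ = inr hC ≫ l₂) : l₁ = l₂ := by
  apply colimit.hom_ext
  intro c
  change chartι c ≫ l₁ = chartι c ≫ l₂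
  refine c.isPushout.hom_ext ?_ ?_
  · rw [← Category.assoc, ← Category.assoc, ← fromSpec_inl hC, Category.assoc, Category.assoc, h₁]
  · rw [← Category.assoc, ← Category.assoc, ← fromSpec_inr hC, Category.assoc, Category.assoc, h₂]

theorem exists_desc {T : Scheme.{u}} (u : X ⟶ T) (v : Y ⟶ T) (h : i ≫ u = j ≫ v) :
    ∃ l : obj i j ⟶ T, inl hC ≫ l = u ∧ inr hC ≫ l = v := by
  have hw : ∀ c : Chart i j, Spec.map c.p ≫ c.hU.fromSpec ≫ u = Spec.map c.q ≫ c.hV.fromSpec ≫ v := fun c => by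
    simp only [Chart.p, Chart.q, IsAffineOpen.SpecMap_appLE_fromSpec_assoc _ _ c.isAffineOpen_trace, h]
  let l : ∀ c : Chart i j, c.W ⟶ T := fun c => c.isPushout.desc _ _ (hw c)
  let cc : Cocone (diagram i j) :=
    { pt := T
      ι :=
        { app := l
          naturality := fun d c f => by
            change Chart.φ (leOfHom f) ≫ l c = l d ≫ 𝟙 T
            rw [Category.comp_id]
            refine d.isPushout.hom_ext ?_ ?_
            · rw [← Category.assoc, Chart.α_φ, Category.assoc, c.isPushout.inl_desc, d.isPushout.inl_desc,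
                ← Category.assoc, Chart.resA_fromSpec]
            · rw [← Category.assoc, Chart.β_φ, Category.assoc, c.isPushout.inr_desc, d.isPushout.inr_desc,
                ← Category.assoc, Chart.resB_fromSpec] } }
  have hι : ∀ c, chartι c ≫ colimit.desc _ cc = l c := fun c => colimit.ι_desc cc c
  refine ⟨colimit.desc _ cc, ?_, ?_⟩
  · refine Scheme.Cover.hom_ext (coverX hC) _ _ fun c => ?_
    change c.hU.fromSpec ≫ inl hC ≫ _ = c.hU.fromSpec ≫ u
    exact (Category.assoc _ _ _).symm.trans ((congrArg (· ≫ _) (fromSpec_inl hC c)).trans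
      ((Category.assoc _ _ _).trans ((congrArg (c.α ≫ ·) (hι c)).trans (c.isPushout.inl_desc _ _ _))))
  · refine Scheme.Cover.hom_ext (coverY hC) _ _ fun c => ?_
    change c.hV.fromSpec ≫ inr hC ≫ _ = c.hV.fromSpec ≫ v
    exact (Category.assoc _ _ _).symm.trans ((congrArg (· ≫ _) (fromSpec_inr hC c)).trans
      ((Category.assoc _ _ _).trans ((congrArg (c.β ≫ ·) (hι c)).trans (c.isPushout.inr_desc _ _ _))))

theorem isPushout : IsPushout i j (inl hC) (inr hC) :=
  IsPushout.of_isColimit (PushoutCocone.IsColimit.mk (condition hC)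
    (fun s => (exists_desc hC s.inl s.inr s.condition).choose)
    (fun s => (exists_desc hC s.inl s.inr s.condition).choose_spec.1)
    (fun s => (exists_desc hC s.inl s.inr s.condition).choose_spec.2)
    fun s m h₁ h₂ => hom_ext hC (h₁.trans (exists_desc hC s.inl s.inr s.condition).choose_spec.1.symm)
      (h₂.trans (exists_desc hC s.inl s.inr s.condition).choose_spec.2.symm))

theorem exists_lift_local {T : Scheme.{u}} (u : T ⟶ X) (v : T ⟶ Y) (h : u ≫ inl hC = v ≫ inr hC) (t : T) :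
    ∃ (O : T.Opens) (hO : IsAffineOpen O), t ∈ O ∧ ∃ w, w ≫ i = hO.fromSpec ≫ u := by
  obtain ⟨c, hc⟩ := hC (v t)
  have hu : u t ∈ c.U := by
    rw [← preimage_inl hC c]
    rw [← preimage_inr hC c] at hc
    have e : inl hC (u t) = inr hC (v t) := congr($h t)
    exact (congrArg (fun x : obj i j => x ∈ (chartι c).opensRange) e).mpr hc
  obtain ⟨_, ⟨O, hO, rfl⟩, htO, hOs⟩ := T.isBasis_affineOpens.exists_subset_of_mem_open
    (show t ∈ (u ⁻¹ᵁ c.U ⊓ v ⁻¹ᵁ c.V : T.Opens) from ⟨hu, hc⟩) (u ⁻¹ᵁ c.U ⊓ v ⁻¹ᵁ c.V).2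
  refine ⟨O, hO, htO, ?_⟩
  obtain ⟨σA, hσA⟩ := Spec.map_surjective (IsOpenImmersion.lift c.hU.fromSpec (hO.fromSpec ≫ u) (by
    rw [c.hU.range_fromSpec]
    rintro _ ⟨y, rfl⟩
    exact (hOs (hO.range_fromSpec.subset ⟨y, rfl⟩)).1))
  obtain ⟨σB, hσB⟩ := Spec.map_surjective (IsOpenImmersion.lift c.hV.fromSpec (hO.fromSpec ≫ v) (by
    rw [c.hV.range_fromSpec]
    rintro _ ⟨y, rfl⟩
    exact (hOs (hO.range_fromSpec.subset ⟨y, rfl⟩)).2))
  have hA : Spec.map σA ≫ c.hU.fromSpec = hO.fromSpec ≫ u := by rw [hσA, IsOpenImmersion.lift_fac]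
  have hB : Spec.map σB ≫ c.hV.fromSpec = hO.fromSpec ≫ v := by rw [hσB, IsOpenImmersion.lift_fac]
  have hgf : c.g ≫ σA = c.f ≫ σB := by
    apply Spec.map_injective
    rw [← cancel_mono (chartι c), Spec.map_comp, Spec.map_comp, Category.assoc, Category.assoc]
    change Spec.map σA ≫ c.α ≫ chartι c = Spec.map σB ≫ c.β ≫ chartι c
    rw [← fromSpec_inl hC, ← fromSpec_inr hC, reassoc_of% hA, reassoc_of% hB, h]
  have hker : RingHom.ker c.p.hom ≤ RingHom.ker σA.hom := fun κ hκ => by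
    obtain ⟨x, hx₁, hx₂⟩ := c.exists_f_zero hκ
    have := congr($hgf x)
    rw [CommRingCat.comp_apply, CommRingCat.comp_apply, hx₁, hx₂, map_zero] at this
    exact this
  let τ : Γ(Z, i ⁻¹ᵁ c.U) →+* Γ(T, O) := c.p.hom.liftOfSurjective c.p_surjective ⟨σA.hom, hker⟩
  refine ⟨Spec.map (CommRingCat.ofHom τ) ≫ c.isAffineOpen_trace.fromSpec, ?_⟩
  have hτ : c.p ≫ CommRingCat.ofHom τ = σA :=
    CommRingCat.hom_ext (RingHom.liftOfSurjective_comp _ _ _)
  rw [Category.assoc, ← IsAffineOpen.SpecMap_appLE_fromSpec i c.hU c.isAffineOpen_trace le_rfl,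
    ← Category.assoc, ← Spec.map_comp, show i.appLE c.U (i ⁻¹ᵁ c.U) le_rfl = c.p from rfl, hτ, hA]

theorem exists_lift {T : Scheme.{u}} (u : T ⟶ X) (v : T ⟶ Y) (h : u ≫ inl hC = v ≫ inr hC) :
    ∃ w : T ⟶ Z, w ≫ i = u := by
  choose O hO htO w hw using exists_lift_local hC u v h
  let 𝒰 : T.OpenCover := Scheme.Cover.mkOfCovers (P := @IsOpenImmersion) T (fun t => Spec Γ(T, O t))
    (fun t => (hO t).fromSpec) (fun t => ⟨t, (hO t).range_fromSpec.superset (htO t)⟩) (fun _ => inferInstance)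
  refine ⟨𝒰.glueMorphisms w fun a b => ?_, Scheme.Cover.hom_ext 𝒰 _ _ fun t => ?_⟩
  · rw [← cancel_mono i, Category.assoc, Category.assoc]
    refine (congrArg (pullback.fst _ _ ≫ ·) (hw a)).trans (Eq.trans ?_ (congrArg (pullback.snd _ _ ≫ ·) (hw b)).symm)
    exact (Category.assoc _ _ _).symm.trans
      ((congrArg (· ≫ u) (pullback.condition (f := 𝒰.f a) (g := 𝒰.f b))).trans (Category.assoc _ _ _))
  · rw [← Category.assoc, Scheme.Cover.ι_glueMorphisms]
    exact hw t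

theorem isPullback : IsPullback i j (inl hC) (inr hC) := by
  haveI := isClosedImmersion_inr hC
  refine IsPullback.of_isLimit (PullbackCone.IsLimit.mk (condition hC)
    (fun s => (exists_lift hC s.fst s.snd s.condition).choose)
    (fun s => (exists_lift hC s.fst s.snd s.condition).choose_spec) (fun s => ?_) fun s m h₁ _ => ?_)
  · rw [← cancel_mono (inr hC), Category.assoc, ← condition hC, ← Category.assoc,
      (exists_lift hC s.fst s.snd s.condition).choose_spec]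
    exact s.condition
  · rw [← cancel_mono i, h₁, (exists_lift hC s.fst s.snd s.condition).choose_spec]

end

end GrothLib.Pushout6
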