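import Groth.Agent.Lib.Pushout6.Exists
import Mathlib.AlgebraicGeometry.Morphisms.Finite
import Mathlib.AlgebraicGeometry.Morphisms.Separated
import Mathlib.AlgebraicGeometry.Morphisms.QuasiSeparated
import Mathlib.AlgebraicGeometry.Morphisms.Immersion
import Mathlib.AlgebraicGeometry.Morphisms.UniversallyClosed
import Mathlib.AlgebraicGeometry.PullbackCarrier

/-!
# Properties of an arbitrary pushout
-/

universe u

open CategoryTheory Limits AlgebraicGeometry Opposite TopologicalSpace

namespace GrothLib.Pushout6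

variable {X Y Z P : Scheme.{u}} {i : Z ⟶ X} {j : Z ⟶ Y} [IsClosedImmersion i]
  {a : X ⟶ P} {b : Y ⟶ P}

/-- The comparison with the glued pushout. -/
noncomputable def objIso (hC : Covered i j) (hP : IsPushout i j a b) : obj i j ≅ P :=
  (isPushout hC).isoIsPushout _ _ hP

theorem inl_objIso (hC : Covered i j) (hP : IsPushout i j a b) : inl hC ≫ (objIso hC hP).hom = a :=
  (isPushout hC).inl_isoIsPushout_hom _ _ hP

theorem inr_objIso (hC : Covered i j) (hP : IsPushout i j a b) : inr hC ≫ (objIso hC hP).hom = b :=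
  (isPushout hC).inr_isoIsPushout_hom _ _ hP

theorem isPullback_of_isPushout (hC : Covered i j) (hP : IsPushout i j a b) : IsPullback i j a b :=
  (isPullback hC).of_iso (Iso.refl _) (Iso.refl _) (Iso.refl _) (objIso hC hP) (by simp) (by simp)
    (by simp [inl_objIso hC hP]) (by simp [inr_objIso hC hP])

theorem prop_left (Q : MorphismProperty Scheme.{u}) [Q.RespectsIso] (hC : Covered i j)
    (hP : IsPushout i j a b) (h : Q (inl hC)) : Q a := by
  rw [← inl_objIso hC hP]
  exact (Q.cancel_right_of_respectsIso _ _).mpr h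

theorem isClosedImmersion_right (hC : Covered i j) (hP : IsPushout i j a b) : IsClosedImmersion b := by
  rw [← inr_objIso hC hP]
  haveI := isClosedImmersion_inr hC
  infer_instance

theorem isIntegralHom_left [IsIntegralHom j] (hC : Covered i j) (hP : IsPushout i j a b) : IsIntegralHom a :=
  prop_left @IsIntegralHom hC hP (isIntegralHom_inl hC)

theorem jointly_surjective (hC : Covered i j) (hP : IsPushout i j a b) (x : P) :
    (∃ u, a u = x) ∨ ∃ v, b v = x := by
  obtain ⟨w, rfl⟩ := (objIso hC hP).hom.surjective x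
  rcases exists_inl_or_inr hC w with ⟨u, rfl⟩ | ⟨v, rfl⟩
  · exact .inl ⟨u, (congr($(inl_objIso hC hP) u)).symm⟩
  · exact .inr ⟨v, (congr($(inr_objIso hC hP) v)).symm⟩

section Diagonal

variable {S : Scheme.{u}} {p : X ⟶ S} {q : Y ⟶ S} {r : P ⟶ S}

omit [IsClosedImmersion i] in
theorem diagonal_comp_eq {W : Scheme.{u}} (c : W ⟶ P) (s : W ⟶ S) (hc : c ≫ r = s) :
    c ≫ pullback.diagonal r =
      pullback.diagonal s ≫ pullback.map s s r r c c (𝟙 S) (by simp [hc]) (by simp [hc]) := by
  apply pullback.hom_ext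
  · rw [Category.assoc, Category.assoc, pullback.map, pullback.lift_fst, pullback.diagonal_fst_assoc,
      pullback.diagonal_fst, Category.comp_id]
  · rw [Category.assoc, Category.assoc, pullback.map, pullback.lift_snd, pullback.diagonal_snd_assoc,
      pullback.diagonal_snd, Category.comp_id]

omit [IsClosedImmersion i] in
theorem isSeparated_of_cover (hs : ∀ x : P, (∃ u, a u = x) ∨ ∃ v, b v = x) [IsIntegralHom a] [IsIntegralHom b]
    (hp : a ≫ r = p) (hq : b ≫ r = q) [IsSeparated p] [IsSeparated q] : IsSeparated r := by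
  refine ⟨IsClosedImmersion.of_isPreimmersion _ ?_⟩
  have key : ∀ {W : Scheme.{u}} (c : W ⟶ P) (s : W ⟶ S) [IsIntegralHom c] [IsSeparated s],
      c ≫ r = s → IsClosed (Set.range (c ≫ pullback.diagonal r)) := by
    intro W c s _ _ hc
    rw [diagonal_comp_eq c s hc]
    haveI : IsClosedImmersion (pullback.diagonal s) := IsSeparated.isClosedImmersion_diagonal
    haveI : IsIntegralHom (pullback.map s s r r c c (𝟙 S) (by simp [hc]) (by simp [hc])) :=
      MorphismProperty.pullbackMap (P := @IsIntegralHom) (i₁ := c) (i₂ := c) inferInstance inferInstance hc.symm hc.symm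
    rw [← Set.image_univ]
    exact ((pullback.diagonal s ≫ pullback.map s s r r c c (𝟙 S) (by simp [hc]) (by simp [hc])).isClosedMap)
      _ isClosed_univ
  have : Set.range (pullback.diagonal r) =
      Set.range (a ≫ pullback.diagonal r) ∪ Set.range (b ≫ pullback.diagonal r) := by
    ext z
    constructor
    · rintro ⟨x, rfl⟩
      rcases hs x with ⟨u, rfl⟩ | ⟨v, rfl⟩
      · exact .inl ⟨u, rfl⟩
      · exact .inr ⟨v, rfl⟩
    · rintro (⟨u, rfl⟩ | ⟨v, rfl⟩)
      · exact ⟨a u, rfl⟩
      · exact ⟨b v, rfl⟩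
  rw [this]
  exact (key a p hp).union (key b q hq)

omit [IsClosedImmersion i] in
theorem quasiSeparated_of_cover (hs : ∀ x : P, (∃ u, a u = x) ∨ ∃ v, b v = x) [IsIntegralHom a] [IsIntegralHom b]
    (hp : a ≫ r = p) (hq : b ≫ r = q) [QuasiSeparated p] [QuasiSeparated q] : QuasiSeparated r := by
  refine ⟨⟨fun U hUo hUc => ?_⟩⟩
  have key : ∀ {W : Scheme.{u}} (c : W ⟶ P) (s : W ⟶ S) [IsIntegralHom c] [QuasiSeparated s],
      c ≫ r = s → IsCompact (c '' ((c ≫ pullback.diagonal r) ⁻¹' U)) := by
    intro W c s _ _ hc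
    haveI : IsIntegralHom (pullback.map s s r r c c (𝟙 S) (by simp [hc]) (by simp [hc])) :=
      MorphismProperty.pullbackMap (P := @IsIntegralHom) (i₁ := c) (i₂ := c) inferInstance inferInstance hc.symm hc.symm
    have h : QuasiCompact (c ≫ pullback.diagonal r) := by
      rw [diagonal_comp_eq c s hc]
      infer_instance
    exact (QuasiCompact.isCompact_preimage (f := c ≫ pullback.diagonal r) U hUo hUc).image c.continuous
  have : pullback.diagonal r ⁻¹' U =
      a '' ((a ≫ pullback.diagonal r) ⁻¹' U) ∪ b '' ((b ≫ pullback.diagonal r) ⁻¹' U) := by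
    ext x
    constructor
    · intro hx
      rcases hs x with ⟨u, rfl⟩ | ⟨v, rfl⟩
      · exact .inl ⟨u, hx, rfl⟩
      · exact .inr ⟨v, hx, rfl⟩
    · rintro (⟨u, hu, rfl⟩ | ⟨v, hv, rfl⟩)
      · exact hu
      · exact hv
  rw [this]
  exact (key a p hp).union (key b q hq)

omit [IsClosedImmersion i] in
theorem quasiCompact_of_cover (hs : ∀ x : P, (∃ u, a u = x) ∨ ∃ v, b v = x)
    (hp : a ≫ r = p) (hq : b ≫ r = q) [QuasiCompact p] [QuasiCompact q] : QuasiCompact r := by
  refine ⟨fun U hUo hUc => ?_⟩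
  have h₁ := (QuasiCompact.isCompact_preimage (f := p) U hUo hUc).image a.continuous
  have h₂ := (QuasiCompact.isCompact_preimage (f := q) U hUo hUc).image b.continuous
  have : r ⁻¹' U = a '' (p ⁻¹' U) ∪ b '' (q ⁻¹' U) := by
    subst hp hq
    ext x
    constructor
    · intro hx
      rcases hs x with ⟨u, rfl⟩ | ⟨v, rfl⟩
      · exact .inl ⟨u, hx, rfl⟩
      · exact .inr ⟨v, hx, rfl⟩
    · rintro (⟨u, hu, rfl⟩ | ⟨v, hv, rfl⟩)
      · exact hu
      · exact hv
  rw [this]
  exact h₁.union h₂

omit [IsClosedImmersion i] in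
theorem universallyClosed_of_cover (hs : ∀ x : P, (∃ u, a u = x) ∨ ∃ v, b v = x)
    (hp : a ≫ r = p) (hq : b ≫ r = q) [UniversallyClosed p] [UniversallyClosed q] : UniversallyClosed r := by
  rw [universallyClosed_eq]
  intro P' S' ρ σ r' h C hC
  have key : ∀ {W : Scheme.{u}} (c : W ⟶ P) (s : W ⟶ S) [UniversallyClosed s], c ≫ r = s →
      IsClosed (r' '' (C ∩ Set.range (pullback.snd c ρ))) := by
    intro W c s _ hc
    have hsq : IsPullback (pullback.snd c ρ ≫ r') (pullback.fst c ρ) σ s := by
      rw [← hc]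
      exact ((IsPullback.of_hasPullback c ρ).paste_vert h.flip).flip
    have hcl := UniversallyClosed.universally_isClosedMap (f := s) (pullback.fst c ρ) σ
      (pullback.snd c ρ ≫ r') hsq
    have : r' '' (C ∩ Set.range (pullback.snd c ρ)) =
        (pullback.snd c ρ ≫ r') '' (pullback.snd c ρ ⁻¹' C) := by
      rw [Scheme.Hom.comp_base, TopCat.coe_comp, Set.image_comp, Set.image_preimage_eq_inter_range]
    rw [this]
    exact hcl _ (hC.preimage (pullback.snd c ρ).continuous)
  have : r' '' C = r' '' (C ∩ Set.range (pullback.snd a ρ)) ∪ r' '' (C ∩ Set.range (pullback.snd b ρ)) := by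
    rw [← Set.image_union, ← Set.inter_union_distrib_left]
    congr 1
    refine (Set.inter_eq_left.mpr fun z _ => ?_).symm
    rcases hs (ρ z) with ⟨u, hu⟩ | ⟨v, hv⟩
    · obtain ⟨w, -, hw⟩ := Scheme.Pullback.exists_preimage_pullback u z hu
      exact .inl ⟨w, hw⟩
    · obtain ⟨w, -, hw⟩ := Scheme.Pullback.exists_preimage_pullback v z hv
      exact .inr ⟨w, hw⟩
  rw [this]
  exact (key a p hp).union (key b q hq)

end Diagonal

end GrothLib.Pushout6
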