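import Groth.Agent.Lib.Misc6.AffinePushout
import Mathlib.AlgebraicGeometry.Morphisms.ClosedImmersion

/-!
# Affine charts for the pushout of a closed immersion and a morphism
-/

universe u

open CategoryTheory Limits AlgebraicGeometry Opposite

namespace GrothLib.Pushout6

variable {X Y Z : Scheme.{u}} (i : Z ⟶ X) (j : Z ⟶ Y)

/-- Affine opens of `X` and `Y` with the same trace on `Z`. -/
structure Chart where
  U : X.Opens
  V : Y.Opens
  hU : IsAffineOpen U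
  hV : IsAffineOpen V
  trace : i ⁻¹ᵁ U = j ⁻¹ᵁ V

variable {i j}

instance : Preorder (Chart i j) := Preorder.lift fun c => (c.U, c.V)

namespace Chart

theorem le_U {d c : Chart i j} (h : d ≤ c) : d.U ≤ c.U := h.1

theorem le_V {d c : Chart i j} (h : d ≤ c) : d.V ≤ c.V := h.2

variable (c : Chart i j)

/-- The map to the ring of the trace from the `X`-side. -/
noncomputable def p : Γ(X, c.U) ⟶ Γ(Z, i ⁻¹ᵁ c.U) := i.appLE c.U (i ⁻¹ᵁ c.U) le_rfl

/-- The map to the ring of the trace from the `Y`-side. -/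
noncomputable def q : Γ(Y, c.V) ⟶ Γ(Z, i ⁻¹ᵁ c.U) := j.appLE c.V (i ⁻¹ᵁ c.U) c.trace.le

/-- The fibre product of the rings. -/
noncomputable def sub : Subring (Γ(Y, c.V) × Γ(X, c.U)) :=
  RingHom.eqLocus (c.q.hom.comp (RingHom.fst Γ(Y, c.V) Γ(X, c.U)))
    (c.p.hom.comp (RingHom.snd Γ(Y, c.V) Γ(X, c.U)))

/-- The ring of the chart of the pushout. -/
noncomputable def ring : CommRingCat.{u} := CommRingCat.of c.sub

theorem mem_sub {b : Γ(Y, c.V)} {a : Γ(X, c.U)} : (b, a) ∈ c.sub ↔ c.q b = c.p a := Iff.rfl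

/-- The projection to the `Y`-side. -/
noncomputable def f : c.ring ⟶ Γ(Y, c.V) :=
  CommRingCat.ofHom ((RingHom.fst Γ(Y, c.V) Γ(X, c.U)).comp c.sub.subtype)

/-- The projection to the `X`-side. -/
noncomputable def g : c.ring ⟶ Γ(X, c.U) :=
  CommRingCat.ofHom ((RingHom.snd Γ(Y, c.V) Γ(X, c.U)).comp c.sub.subtype)

/-- An element of the ring of a chart. -/
noncomputable def pair (b : Γ(Y, c.V)) (a : Γ(X, c.U)) (h : c.q b = c.p a) : c.ring :=
  (⟨(b, a), h⟩ : c.sub)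

@[simp] theorem f_pair (b : Γ(Y, c.V)) (a : Γ(X, c.U)) (h : c.q b = c.p a) : c.f (c.pair b a h) = b := rfl

@[simp] theorem g_pair (b : Γ(Y, c.V)) (a : Γ(X, c.U)) (h : c.q b = c.p a) : c.g (c.pair b a h) = a := rfl

theorem ext {x y : c.ring} (h₁ : c.f x = c.f y) (h₂ : c.g x = c.g y) : x = y :=
  (Subtype.ext (Prod.ext h₁ h₂) : (show c.sub from x) = (show c.sub from y))

theorem w (x : c.ring) : c.q (c.f x) = c.p (c.g x) := (show c.sub from x).2

variable [IsClosedImmersion i]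

theorem p_surjective : Function.Surjective c.p.hom := by
  rw [p, ← Scheme.Hom.app_eq_appLE]
  exact i.app_surjective c.U c.hU

theorem isAffineOpen_trace : IsAffineOpen (i ⁻¹ᵁ c.U) := c.hU.preimage i

theorem fibreSquare : Misc6.FibreSquare c.f.hom c.g.hom c.q.hom c.p.hom where
  w := RingHom.ext c.w
  inj x h₁ h₂ := c.ext (h₁.trans (map_zero c.f.hom).symm) (h₂.trans (map_zero c.g.hom).symm)
  ex b a h := ⟨c.pair b a h, rfl, rfl⟩
  surj := c.p_surjective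

theorem f_surjective : Function.Surjective c.f.hom := fun b => by
  obtain ⟨a, ha⟩ := c.p_surjective (c.q b)
  exact ⟨c.pair b a ha.symm, rfl⟩

theorem exists_f_zero {κ : Γ(X, c.U)} (h : c.p κ = 0) : ∃ x : c.ring, c.f x = 0 ∧ c.g x = κ :=
  ⟨c.pair 0 κ (by rw [map_zero, h]), rfl, rfl⟩

/-- The chart of the pushout. -/
noncomputable abbrev W : Scheme.{u} := Spec c.ring

/-- The map from the `X`-part of a chart. -/
noncomputable def α : Spec Γ(X, c.U) ⟶ c.W := Spec.map c.g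

/-- The map from the `Y`-part of a chart. -/
noncomputable def β : Spec Γ(Y, c.V) ⟶ c.W := Spec.map c.f

instance : IsClosedImmersion c.β := IsClosedImmersion.spec_of_surjective _ c.f_surjective

theorem isPushout : IsPushout (Spec.map c.p) (Spec.map c.q) c.α c.β :=
  Misc6.isPushout_spec c.fibreSquare

theorem surj (x : c.W) : (∃ u, c.α u = x) ∨ ∃ v, c.β v = x :=
  (c.fibreSquare.jointPair.surj x).symm

theorem fromSpec_p (z : Spec Γ(Z, i ⁻¹ᵁ c.U)) :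
    c.hU.fromSpec (Spec.map c.p z) = i (c.isAffineOpen_trace.fromSpec z) :=
  congr($(IsAffineOpen.SpecMap_appLE_fromSpec i c.hU c.isAffineOpen_trace le_rfl) z)

theorem fromSpec_q (z : Spec Γ(Z, i ⁻¹ᵁ c.U)) :
    c.hV.fromSpec (Spec.map c.q z) = j (c.isAffineOpen_trace.fromSpec z) :=
  congr($(IsAffineOpen.SpecMap_appLE_fromSpec j c.hV c.isAffineOpen_trace c.trace.le) z)

theorem mem_range_p_of_ker_le {u : Spec Γ(X, c.U)} (h : RingHom.ker c.p.hom ≤ u.asIdeal) :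
    ∃ z, Spec.map c.p z = u := by
  have : u ∈ Set.range (PrimeSpectrum.comap c.p.hom) := by
    rw [range_comap_of_surjective _ _ c.p_surjective]
    exact h
  exact this

theorem eq_of_β_eq {v v' : Spec Γ(Y, c.V)} (h : c.β v = c.β v') : v = v' :=
  PrimeSpectrum.comap_injective_of_surjective _ c.f_surjective h

theorem exists_trace_of_eq {u : Spec Γ(X, c.U)} {v : Spec Γ(Y, c.V)} (h : c.α u = c.β v) :
    ∃ z, Spec.map c.p z = u ∧ Spec.map c.q z = v := by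
  obtain ⟨z, rfl⟩ := c.mem_range_p_of_ker_le (u := u) fun κ hκ => by
    obtain ⟨x, hx₁, hx₂⟩ := c.exists_f_zero hκ
    have h' : x ∈ (c.β v).asIdeal := by
      show c.f x ∈ v.asIdeal
      rw [hx₁]
      exact v.asIdeal.zero_mem
    rw [← h] at h'
    exact (congrArg (· ∈ u.asIdeal) hx₂).mp h'
  refine ⟨z, rfl, c.eq_of_β_eq ?_⟩
  rw [← h]
  exact congr($(c.isPushout.w) z).symm

theorem eq_of_α_eq {u u' : Spec Γ(X, c.U)} (h : c.α u = c.α u') (hu : ∀ z, Spec.map c.p z ≠ u) : u = u' := by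
  obtain ⟨κ, hκ, hκu⟩ := SetLike.not_le_iff_exists.mp
    fun hle : RingHom.ker c.p.hom ≤ u.asIdeal => (c.mem_range_p_of_ker_le hle).elim hu
  have key : ∀ a : Γ(X, c.U), a * κ ∈ u.asIdeal ↔ a * κ ∈ u'.asIdeal := fun a => by
    obtain ⟨x, -, hx⟩ := c.exists_f_zero (κ := a * κ) (by rw [map_mul, show c.p κ = 0 from hκ, mul_zero])
    have h' : x ∈ (c.α u).asIdeal ↔ x ∈ (c.α u').asIdeal := by rw [h]
    change c.g x ∈ u.asIdeal ↔ c.g x ∈ u'.asIdeal at h'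
    rwa [hx] at h'
  have hκu' : κ ∉ u'.asIdeal := fun h' => hκu (by
    have := (key 1).mpr (by rwa [one_mul])
    rwa [one_mul] at this)
  refine PrimeSpectrum.ext (Ideal.ext fun a => ⟨fun ha => ?_, fun ha => ?_⟩)
  · exact (u'.isPrime.mem_or_mem ((key a).mp (u.asIdeal.mul_mem_right κ ha))).resolve_right hκu'
  · exact (u.isPrime.mem_or_mem ((key a).mpr (u'.asIdeal.mul_mem_right κ ha))).resolve_right hκu

/-- All points over `x` lie in the given opens. -/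
structure Good (OX : X.Opens) (OY : Y.Opens) (x : c.W) : Prop where
  left : ∀ u, c.α u = x → c.hU.fromSpec u ∈ OX
  right : ∀ v, c.β v = x → c.hV.fromSpec v ∈ OY

variable {c} {OX : X.Opens} {OY : Y.Opens}

theorem good_of_β (hO : i ⁻¹ᵁ OX = j ⁻¹ᵁ OY) {v : Spec Γ(Y, c.V)} (hv : c.hV.fromSpec v ∈ OY) :
    c.Good OX OY (c.β v) := by
  refine ⟨fun u hu => ?_, fun v' hv' => c.eq_of_β_eq hv' ▸ hv⟩
  obtain ⟨z, hzu, hzv⟩ := c.exists_trace_of_eq hu
  rw [← hzv, fromSpec_q] at hv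
  rw [← hzu, fromSpec_p]
  show c.isAffineOpen_trace.fromSpec z ∈ i ⁻¹ᵁ OX
  rw [hO]
  exact hv

theorem good_of_α (hO : i ⁻¹ᵁ OX = j ⁻¹ᵁ OY) {u : Spec Γ(X, c.U)} (hu : c.hU.fromSpec u ∈ OX) :
    c.Good OX OY (c.α u) := by
  by_cases h : ∃ z, Spec.map c.p z = u
  · obtain ⟨z, rfl⟩ := h
    have hw : c.α (Spec.map c.p z) = c.β (Spec.map c.q z) := congr($(c.isPushout.w) z)
    rw [hw]
    refine good_of_β hO ?_
    rw [fromSpec_p] at hu
    rw [fromSpec_q]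
    show c.isAffineOpen_trace.fromSpec z ∈ j ⁻¹ᵁ OY
    rw [← hO]
    exact hu
  · push Not at h
    refine ⟨fun u' hu' => c.eq_of_α_eq hu'.symm h ▸ hu, fun v hv => ?_⟩
    obtain ⟨z, hz, -⟩ := c.exists_trace_of_eq hv.symm
    exact absurd hz (h z)

theorem good_self (x : c.W) : c.Good c.U c.V x :=
  ⟨fun u _ => c.hU.range_fromSpec.subset ⟨u, rfl⟩, fun v _ => c.hV.range_fromSpec.subset ⟨v, rfl⟩⟩

theorem fromSpec_mem_basicOpen {S : Scheme.{u}} {U : S.Opens} (hU : IsAffineOpen U) (t : Γ(S, U))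
    (u : Spec Γ(S, U)) : hU.fromSpec u ∈ S.basicOpen t ↔ t ∉ u.asIdeal := by
  show u ∈ hU.fromSpec ⁻¹ᵁ S.basicOpen t ↔ _
  rw [hU.fromSpec_preimage_basicOpen]
  exact Iff.rfl

theorem exists_s_β (hO : i ⁻¹ᵁ OX = j ⁻¹ᵁ OY) {v : Spec Γ(Y, c.V)} (hv : c.hV.fromSpec v ∈ OY) :
    ∃ s : c.ring, s ∉ (c.β v).asIdeal ∧ X.basicOpen (c.g s) ≤ OX ∧ Y.basicOpen (c.f s) ≤ OY := by
  obtain ⟨b, hb, hvb⟩ := c.hV.exists_basicOpen_le (V := OY) ⟨_, hv⟩ (c.hV.range_fromSpec.subset ⟨v, rfl⟩)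
  obtain ⟨K, hK⟩ := (PrimeSpectrum.isClosed_iff_zeroLocus_ideal _).mp
    ((c.hU.fromSpec ⁻¹ᵁ OX).2.isClosed_compl : IsClosed (X := PrimeSpectrum Γ(X, c.U)) _)
  have hmem : c.q b ∈ (K.map c.p.hom).radical := by
    rw [Ideal.radical_eq_sInf]
    refine Ideal.mem_sInf.mpr fun J ⟨hJ, hJp⟩ => ?_
    let z : Spec Γ(Z, i ⁻¹ᵁ c.U) := ⟨J, hJp⟩
    have h3 : Spec.map c.p z ∈ PrimeSpectrum.zeroLocus (K : Set Γ(X, c.U)) := fun y hy =>
      hJ (Ideal.mem_map_of_mem _ hy)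
    rw [← hK] at h3
    by_contra hbJ
    have h1 : c.hV.fromSpec (Spec.map c.q z) ∈ Y.basicOpen b := (fromSpec_mem_basicOpen c.hV b _).mpr hbJ
    have h2 := hb h1
    rw [fromSpec_q] at h2
    refine h3 ?_
    show c.hU.fromSpec (Spec.map c.p z) ∈ OX
    rw [fromSpec_p]
    show c.isAffineOpen_trace.fromSpec z ∈ i ⁻¹ᵁ OX
    rw [hO]
    exact h2
  obtain ⟨n, hn⟩ := hmem
  obtain ⟨a, ha, hpa⟩ := (Ideal.mem_map_iff_of_surjective _ c.p_surjective).mp hn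
  obtain ⟨a', ha'⟩ := c.p_surjective (c.q b)
  refine ⟨c.pair (b ^ (n + 1)) (a * a') (by rw [map_pow, map_mul, hpa, ha', pow_succ]), ?_, ?_, ?_⟩
  · show b ^ (n + 1) ∉ v.asIdeal
    exact fun h => (fromSpec_mem_basicOpen c.hV b v).mp hvb (v.isPrime.mem_of_pow_mem _ h)
  · rw [g_pair, X.basicOpen_mul]
    refine inf_le_left.trans fun x hx => ?_
    obtain ⟨u, rfl⟩ := c.hU.range_fromSpec.superset (X.basicOpen_le a hx)
    by_contra hu
    have hu' : u ∈ PrimeSpectrum.zeroLocus (K : Set Γ(X, c.U)) := hK ▸ hu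
    exact (fromSpec_mem_basicOpen c.hU a u).mp hx (hu' ha)
  · rw [f_pair, Y.basicOpen_pow _ n.succ_pos]
    exact hb

theorem exists_s_α {u : Spec Γ(X, c.U)} (hu : c.hU.fromSpec u ∈ OX) (h : ∀ z, Spec.map c.p z ≠ u) :
    ∃ s : c.ring, s ∉ (c.α u).asIdeal ∧ X.basicOpen (c.g s) ≤ OX ∧ Y.basicOpen (c.f s) ≤ OY := by
  obtain ⟨κ, hκ, hκu⟩ := SetLike.not_le_iff_exists.mp
    fun hle : RingHom.ker c.p.hom ≤ u.asIdeal => (c.mem_range_p_of_ker_le hle).elim h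
  obtain ⟨a, ha, hua⟩ := c.hU.exists_basicOpen_le (V := OX) ⟨_, hu⟩ (c.hU.range_fromSpec.subset ⟨u, rfl⟩)
  refine ⟨c.pair 0 (κ * a) (by rw [map_zero, map_mul, show c.p κ = 0 from hκ, zero_mul]), ?_, ?_, ?_⟩
  · show κ * a ∉ u.asIdeal
    exact fun h' => (u.isPrime.mem_or_mem h').elim hκu ((fromSpec_mem_basicOpen c.hU a u).mp hua)
  · rw [g_pair, X.basicOpen_mul]
    exact inf_le_right.trans ha
  · rw [f_pair, Y.basicOpen_zero]
    exact bot_le

theorem exists_s (hO : i ⁻¹ᵁ OX = j ⁻¹ᵁ OY) {x : c.W} (hx : c.Good OX OY x) :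
    ∃ s : c.ring, s ∉ x.asIdeal ∧ X.basicOpen (c.g s) ≤ OX ∧ Y.basicOpen (c.f s) ≤ OY := by
  by_cases hv : ∃ v, c.β v = x
  · obtain ⟨v, rfl⟩ := hv
    exact exists_s_β hO (hx.right v rfl)
  obtain ⟨u, rfl⟩ := (c.surj x).resolve_right hv
  refine exists_s_α (hx.left u rfl) fun z hz => hv ⟨Spec.map c.q z, ?_⟩
  rw [← hz]
  exact congr($(c.isPushout.w) z).symm

/-- The basic sub-chart. -/
noncomputable def basic (c : Chart i j) (s : c.ring) : Chart i j where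
  U := X.basicOpen (c.g s)
  V := Y.basicOpen (c.f s)
  hU := c.hU.basicOpen _
  hV := c.hV.basicOpen _
  trace := by
    have e₁ : Z.basicOpen (c.p (c.g s)) = i ⁻¹ᵁ c.U ⊓ i ⁻¹ᵁ X.basicOpen (c.g s) :=
      Scheme.basicOpen_appLE i _ _ le_rfl _
    have e₂ : Z.basicOpen (c.q (c.f s)) = i ⁻¹ᵁ c.U ⊓ j ⁻¹ᵁ Y.basicOpen (c.f s) :=
      Scheme.basicOpen_appLE j _ _ c.trace.le _
    rw [c.w s, e₁] at e₂
    rw [inf_eq_right.mpr (Scheme.Hom.preimage_mono i (X.basicOpen_le _)),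
      inf_eq_right.mpr ((Scheme.Hom.preimage_mono j (Y.basicOpen_le _)).trans c.trace.ge)] at e₂
    exact e₂

theorem basic_le (c : Chart i j) (s : c.ring) : c.basic s ≤ c := ⟨X.basicOpen_le _, Y.basicOpen_le _⟩

end Chart

end GrothLib.Pushout6
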