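import Groth.Agent.Lib.Pushout6.Exists
import Groth.Agent.Lib.AlgSp.LqfDescent

/-!
# Charts when fibres lie in quasi-affine opens
-/

universe u

open CategoryTheory Limits AlgebraicGeometry Opposite TopologicalSpace

namespace GrothLib.Pushout6

variable {X Y Z : Scheme.{u}} (i : Z ⟶ X) (j : Z ⟶ Y) [IsClosedImmersion i]

theorem covered_of_integral_qa [IsIntegralHom j]
    (hqa : ∀ y : Y, ∃ U : X.Opens, U.toScheme.IsQuasiAffine ∧ j ⁻¹' {y} ⊆ i ⁻¹' (U : Set X)) :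
    Covered i j := fun y => by
  obtain ⟨U₁, hU₁, hy₁⟩ := hqa y
  obtain ⟨O, hyO, hO⟩ := exists_nhd_fibre_le j (j.isClosedMap) (W := i ⁻¹ᵁ U₁) fun z hz => hy₁ hz
  obtain ⟨_, ⟨V, hV, rfl⟩, hyV, hVO⟩ :=
    Y.isBasis_affineOpens.exists_subset_of_mem_open (u := (O : Set Y)) hyO O.2
  have hC : IsAffineOpen (j ⁻¹ᵁ V) := hV.preimage j
  have hVU : j ⁻¹ᵁ V ≤ i ⁻¹ᵁ U₁ := (Scheme.Hom.preimage_mono j hVO).trans hO
  let Ω : X.Opens := U₁ ⊓ ⟨(i '' ((j ⁻¹ᵁ V : Z.Opens) : Set Z)ᶜ)ᶜ,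
    (i.isClosedEmbedding.isClosedMap _ (j ⁻¹ᵁ V).2.isClosed_compl).isOpen_compl⟩
  have hΩ : i ⁻¹ᵁ Ω ≤ j ⁻¹ᵁ V := fun z hz => by_contra fun hn => hz.2 ⟨z, hn, rfl⟩
  have hΩ' : ∀ z, z ∈ j ⁻¹ᵁ V → i z ∈ Ω := fun z hz => ⟨hVU hz, fun ⟨z', hz', he⟩ =>
    hz' (i.isClosedEmbedding.injective he ▸ hz)⟩
  let e : U₁.toScheme ⟶ Spec Γ(U₁.toScheme, ⊤) := U₁.toScheme.toSpecΓ
  let Ω₀ : (Spec Γ(U₁.toScheme, ⊤)).Opens := e ''ᵁ (U₁.ι ⁻¹ᵁ Ω)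
  obtain ⟨K, hK⟩ := (PrimeSpectrum.isClosed_iff_zeroLocus_ideal _).mp
    (Ω₀.2.isClosed_compl : IsClosed (X := PrimeSpectrum Γ(U₁.toScheme, ⊤)) _)
  obtain ⟨v, rfl⟩ := hV.range_fromSpec.superset hyV
  let φ : Γ(Y, V) ⟶ Γ(Z, j ⁻¹ᵁ V) := j.appLE V (j ⁻¹ᵁ V) le_rfl
  let l : Spec Γ(Z, j ⁻¹ᵁ V) ⟶ U₁.toScheme := IsOpenImmersion.lift U₁.ι (hC.fromSpec ≫ i) (by
    rw [U₁.range_ι]
    rintro _ ⟨w, rfl⟩
    exact hVU (hC.range_fromSpec.subset ⟨w, rfl⟩))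
  obtain ⟨ψ, hψ⟩ := Spec.map_surjective (l ≫ e)
  have hφ : φ.hom.IsIntegral := by
    show (j.appLE V (j ⁻¹ᵁ V) le_rfl).hom.IsIntegral
    rw [← Scheme.Hom.app_eq_appLE]
    exact j.isIntegral_app V hV
  have hl : ∀ w, U₁.ι (l w) = i (hC.fromSpec w) := fun w =>
    congr($(IsOpenImmersion.lift_fac U₁.ι (hC.fromSpec ≫ i) _) w)
  have hψl : ∀ w, Spec.map ψ w = e (l w) := fun w => congr($hψ w)
  have hφv : ∀ w : Spec Γ(Z, j ⁻¹ᵁ V), hV.fromSpec (Spec.map φ w) = j (hC.fromSpec w) := fun w =>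
    congr($(IsAffineOpen.SpecMap_appLE_fromSpec j hV hC le_rfl) w)
  obtain ⟨r, hrK, hr⟩ := exists_avoid φ.hom hφ ψ.hom K v.asIdeal fun Q hQ _ hKQ => by
    have hmem : (PrimeSpectrum.comap ψ.hom ⟨Q, hQ⟩) ∈ PrimeSpectrum.zeroLocus (K : Set Γ(U₁.toScheme, ⊤)) := hKQ
    rw [← hK] at hmem
    refine hmem ?_
    show Spec.map ψ (⟨Q, hQ⟩ : Spec Γ(Z, j ⁻¹ᵁ V)) ∈ Ω₀
    rw [hψl]
    refine ⟨_, ?_, rfl⟩
    show U₁.ι (l _) ∈ Ω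
    rw [hl]
    exact hΩ' _ (hC.range_fromSpec.subset ⟨_, rfl⟩)
  let D : (Spec Γ(U₁.toScheme, ⊤)).Opens := PrimeSpectrum.basicOpen r
  have hDΩ : D ≤ Ω₀ := fun x hx => by
    by_contra hn
    exact hx ((hK ▸ hn : x ∈ PrimeSpectrum.zeroLocus (K : Set Γ(U₁.toScheme, ⊤))) hrK)
  have hD : IsAffineOpen D := IsAffineOpen.Spec_basicOpen r
  let U' : X.Opens := U₁.ι ''ᵁ (e ⁻¹ᵁ D)
  have hU' : IsAffineOpen U' :=
    (hD.preimage_of_isOpenImmersion e fun x hx => by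
      obtain ⟨y, -, rfl⟩ := hDΩ hx
      exact ⟨y, rfl⟩).image_of_isOpenImmersion U₁.ι
  have hU'Ω : U' ≤ Ω := by
    rintro _ ⟨x, hx, rfl⟩
    obtain ⟨y, hy, hyx⟩ := hDΩ hx
    rw [← e.isOpenEmbedding.injective hyx]
    exact hy
  have hU'V : i ⁻¹ᵁ U' ≤ j ⁻¹ᵁ V := (Scheme.Hom.preimage_mono i hU'Ω).trans hΩ
  have hfib : ∀ z, j z = hV.fromSpec v → z ∈ i ⁻¹ᵁ U' := fun z hz => by
    obtain ⟨w, rfl⟩ := hC.range_fromSpec.superset (show z ∈ j ⁻¹ᵁ V from by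
      show j z ∈ V
      rw [hz]
      exact hV.range_fromSpec.subset ⟨v, rfl⟩)
    refine ⟨l w, ?_, hl w⟩
    show e (l w) ∈ D
    rw [← hψl]
    refine hr w.asIdeal w.isPrime ?_
    exact congrArg PrimeSpectrum.asIdeal
      (hV.fromSpec.isOpenEmbedding.injective ((hφv w).trans hz) : Spec.map φ w = v)
  obtain ⟨O', hyO', hO'⟩ := exists_nhd_fibre_le j (j.isClosedMap) hfib
  obtain ⟨t, ht, hvt⟩ := hV.exists_basicOpen_le (V := O') ⟨_, hyO'⟩ hyV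
  obtain ⟨a, ha⟩ := i.app_surjective U' hU' (j.appLE V (i ⁻¹ᵁ U') hU'V t)
  refine ⟨⟨X.basicOpen a, Y.basicOpen t, hU'.basicOpen a, hV.basicOpen t, ?_⟩, hvt⟩
  rw [Scheme.preimage_basicOpen, ha, Scheme.basicOpen_appLE]
  exact inf_eq_right.mpr ((Scheme.Hom.preimage_mono j ht).trans hO')

theorem exists_qa_of_lqf {X' Y' Z' : Scheme.{u}} (i' : Z' ⟶ X') (j' : Z' ⟶ Y') [QuasiCompact j']
    (f : X' ⟶ X) [IsSeparated f] [LocallyQuasiFinite f] [LocallyOfFiniteType f] (y' : Y')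
    {U : X.Opens} (hU : IsAffineOpen U) (hy : ∀ z', j' z' = y' → f (i' z') ∈ U) :
    ∃ Q : X'.Opens, Q.toScheme.IsQuasiAffine ∧ j' ⁻¹' {y'} ⊆ i' ⁻¹' (Q : Set X') := by
  have hcomp : IsCompact (i' '' (j' ⁻¹' {y'})) := by
    have h : IsCompact (j' ⁻¹' {y'}) := j'.range_fiberι y' ▸ isCompact_range (j'.fiberι y').continuous
    exact h.image i'.continuous
  have hcov : ∀ x : i' '' (j' ⁻¹' {y'}), ∃ A : X'.affineOpens, (x : X') ∈ A.1 ∧ A.1 ≤ f ⁻¹ᵁ U := by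
    rintro ⟨_, z, hz, rfl⟩
    obtain ⟨_, ⟨A, hA, rfl⟩, hxA, hAU⟩ := X'.isBasis_affineOpens.exists_subset_of_mem_open
      (show i' z ∈ ((f ⁻¹ᵁ U : X'.Opens) : Set X') from hy z hz) (f ⁻¹ᵁ U).2
    exact ⟨⟨A, hA⟩, hxA, hAU⟩
  choose A hA hAU using hcov
  obtain ⟨s, hs⟩ := hcomp.elim_finite_subcover (fun x => ((A x).1 : Set X')) (fun x => (A x).1.2)
    fun x hx => Set.mem_iUnion.mpr ⟨⟨x, hx⟩, hA _⟩
  let Q : X'.Opens := ⨆ x ∈ s, (A x).1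
  have hQc : IsCompact (Q : Set X') := by
    simp only [Q, Opens.coe_iSup]
    exact s.finite_toSet.isCompact_biUnion fun x _ => (A x).2.isCompact
  have hQU : Q ≤ f ⁻¹ᵁ U := iSup₂_le fun x _ => hAU x
  refine ⟨Q, ?_, fun z hz => ?_⟩
  · haveI : CompactSpace Q.toScheme := isCompact_iff_compactSpace.mp hQc
    haveI : IsAffine U.toScheme := hU
    exact AlgSp.isQuasiAffine_of_lqf (f.resLE U Q hQU)
  · obtain ⟨x, hx, hzx⟩ := Set.mem_iUnion₂.mp (hs ⟨z, hz, rfl⟩)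
    exact le_iSup₂ (f := fun x _ => (A x).1) x hx hzx

end GrothLib.Pushout6
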