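import Groth.Agent.Lib.Pushout6.Transfer
import Mathlib.RingTheory.Adjoin.Tower
import Mathlib.AlgebraicGeometry.Morphisms.FiniteType
import Mathlib.AlgebraicGeometry.Noetherian

/-!
# Pushouts locally of finite type over a locally noetherian base (Artin-Tate)
-/

universe u

open CategoryTheory Limits AlgebraicGeometry Opposite TopologicalSpace

namespace GrothLib.Pushout6

theorem finiteType_of_fibre_product {R P A B : Type u} [CommRing R] [CommRing P] [CommRing A] [CommRing B]
    [IsNoetherianRing R] (ρ : R →+* P) (g : P →+* A) (f : P →+* B) (hg : g.IsIntegral)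
    (hf : Function.Surjective f) (hinj : ∀ x, f x = 0 → g x = 0 → x = 0)
    (hA : (g.comp ρ).FiniteType) (hB : (f.comp ρ).FiniteType) : ρ.FiniteType := by
  have hgfin : g.Finite := hg.to_finite (RingHom.FiniteType.of_comp_finiteType hA)
  have hffin : f.Finite := RingHom.Finite.of_surjective f hf
  algebraize [ρ, g, f, g.comp ρ, f.comp ρ]
  haveI : IsScalarTower R P (B × A) :=
    IsScalarTower.of_algebraMap_eq fun x => Prod.ext rfl rfl
  haveI : Module.Finite P A := hgfin
  haveI : Module.Finite P B := hffin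
  haveI : Algebra.FiniteType R A := hA
  haveI : Algebra.FiniteType R B := hB
  exact ⟨fg_of_fg_of_fg R P (B × A) Algebra.FiniteType.out Module.Finite.fg_top
    ((injective_iff_map_eq_zero (algebraMap P (B × A))).mpr fun x hx =>
      hinj x (congrArg Prod.fst hx) (congrArg Prod.snd hx))⟩

variable {X Y Z P S : Scheme.{u}} {i : Z ⟶ X} {j : Z ⟶ Y} [IsClosedImmersion i]

theorem isIntegral_g [IsIntegralHom j] (hC : Covered i j) (c : Chart i j) : c.g.hom.IsIntegral := by
  have hpb : IsPullback c.α c.hU.fromSpec (chartι c) (inl hC) :=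
    IsOpenImmersion.isPullback _ _ _ _ (fromSpec_inl hC c) (by rw [preimage_inl, c.hU.opensRange_fromSpec])
  exact IsIntegralHom.SpecMap_iff.mp
    (MorphismProperty.of_isPullback (P := @IsIntegralHom) hpb.flip (isIntegralHom_inl hC))

theorem locallyOfFiniteType_obj [IsIntegralHom j] (hC : Covered i j) (r : obj i j ⟶ S) [IsLocallyNoetherian S]
    [LocallyOfFiniteType (inl hC ≫ r)] [LocallyOfFiniteType (inr hC ≫ r)] : LocallyOfFiniteType r := by
  have hcov : ∀ x : obj i j, ∃ c : { c : Chart i j // ∃ W : S.Opens, IsAffineOpen W ∧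
      Set.range (chartι c ≫ r) ⊆ (W : Set S) }, ∃ w, chartι c.1 w = x := fun x => by
    obtain ⟨c, w, rfl⟩ := exists_eq_chartι x
    obtain ⟨_, ⟨W, hW, rfl⟩, hxW, -⟩ := S.isBasis_affineOpens.exists_subset_of_mem_open
      (Set.mem_univ ((chartι c ≫ r) w)) isOpen_univ
    obtain ⟨_, ⟨_, ⟨s, rfl⟩, rfl⟩, hws, hs⟩ := PrimeSpectrum.isBasis_basic_opens.exists_subset_of_mem_open
      (show w ∈ (((chartι c ≫ r) ⁻¹ᵁ W : c.W.Opens) : Set c.W) from hxW) ((chartι c ≫ r) ⁻¹ᵁ W).2
    obtain ⟨v, hv⟩ := (Chart.range_φ_basic (c.basic_le s) s rfl rfl).superset hws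
    refine ⟨⟨c.basic s, W, hW, ?_⟩, v, ?_⟩
    · rintro _ ⟨y, rfl⟩
      rw [← φ_chartι (c.basic_le s), Category.assoc]
      exact hs ((Chart.range_φ_basic (c.basic_le s) s rfl rfl).subset ⟨y, rfl⟩)
    · exact (congr($(φ_chartι (c.basic_le s)) v)).symm.trans (congrArg (chartι c) hv)
  refine IsZariskiLocalAtSource.of_openCover (P := @LocallyOfFiniteType)
    (Scheme.Cover.mkOfCovers (P := @IsOpenImmersion)
      { c : Chart i j // ∃ W : S.Opens, IsAffineOpen W ∧ Set.range (chartι c ≫ r) ⊆ (W : Set S) }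
      (fun c => c.1.W) (fun c => chartι c.1) hcov fun _ => inferInstance) ?_
  rintro ⟨c, W, hW, hc⟩
  show LocallyOfFiniteType (chartι c ≫ r)
  haveI : IsNoetherianRing Γ(S, W) := IsLocallyNoetherian.component_noetherian ⟨W, hW⟩
  obtain ⟨ρ, hρ⟩ := Spec.map_surjective (IsOpenImmersion.lift hW.fromSpec (chartι c ≫ r)
    (by rw [hW.range_fromSpec]; exact hc))
  have hfac : Spec.map ρ ≫ hW.fromSpec = chartι c ≫ r := by rw [hρ, IsOpenImmersion.lift_fac]
  have key : ∀ {A : CommRingCat.{u}} {T : Scheme.{u}} (φ : c.ring ⟶ A) (m : Spec A ⟶ T) (t : T ⟶ obj i j)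
      [IsOpenImmersion m] [LocallyOfFiniteType (t ≫ r)],
      m ≫ t = Spec.map φ ≫ chartι c → (φ.hom.comp ρ.hom).FiniteType := by
    intro A T φ m t _ _ h
    have e : Spec.map (ρ ≫ φ) ≫ hW.fromSpec = m ≫ t ≫ r := by
      rw [Spec.map_comp, Category.assoc, hfac, reassoc_of% h]
    haveI : LocallyOfFiniteType (Spec.map (ρ ≫ φ) ≫ hW.fromSpec) := by rw [e]; infer_instance
    exact (HasRingHomProperty.Spec_iff (P := @LocallyOfFiniteType)).mp
      (locallyOfFiniteType_of_comp _ hW.fromSpec)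
  have hft : ρ.hom.FiniteType := finiteType_of_fibre_product ρ.hom c.g.hom c.f.hom (isIntegral_g hC c)
    c.f_surjective c.fibreSquare.inj
    (key c.g c.hU.fromSpec (inl hC) (fromSpec_inl hC c)) (key c.f c.hV.fromSpec (inr hC) (fromSpec_inr hC c))
  rw [← hfac]
  haveI : LocallyOfFiniteType (Spec.map ρ) := (HasRingHomProperty.Spec_iff (P := @LocallyOfFiniteType)).mpr hft
  infer_instance

variable {a : X ⟶ P} {b : Y ⟶ P}

theorem locallyOfFiniteType_of_isPushout [IsIntegralHom j] (hC : Covered i j) (hP : IsPushout i j a b)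
    (r : P ⟶ S) [IsLocallyNoetherian S] [LocallyOfFiniteType (a ≫ r)] [LocallyOfFiniteType (b ≫ r)] :
    LocallyOfFiniteType r := by
  haveI : LocallyOfFiniteType (inl hC ≫ (objIso hC hP).hom ≫ r) := by
    rw [← Category.assoc, inl_objIso]
    infer_instance
  haveI : LocallyOfFiniteType (inr hC ≫ (objIso hC hP).hom ≫ r) := by
    rw [← Category.assoc, inr_objIso]
    infer_instance
  exact (MorphismProperty.cancel_left_of_respectsIso @LocallyOfFiniteType (objIso hC hP).hom r).mp
    (locallyOfFiniteType_obj hC _)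

end GrothLib.Pushout6
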