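import Groth.Agent.Lib.Pushout6.Chart

/-!
# Transition maps between charts are open immersions
-/

universe u

open CategoryTheory Limits AlgebraicGeometry Opposite TopologicalSpace

namespace GrothLib.Pushout6

variable {X Y Z : Scheme.{u}} {i : Z ⟶ X} {j : Z ⟶ Y}

namespace Chart

variable {d c : Chart i j} (h : d ≤ c)

/-- Restriction on the `X`-side. -/
noncomputable def resA : Γ(X, c.U) ⟶ Γ(X, d.U) := X.presheaf.map (homOfLE (le_U h)).op

/-- Restriction on the `Y`-side. -/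
noncomputable def resB : Γ(Y, c.V) ⟶ Γ(Y, d.V) := Y.presheaf.map (homOfLE (le_V h)).op

/-- Restriction on the trace. -/
noncomputable def resC : Γ(Z, i ⁻¹ᵁ c.U) ⟶ Γ(Z, i ⁻¹ᵁ d.U) :=
  Z.presheaf.map (homOfLE (Scheme.Hom.preimage_mono i (le_U h))).op

theorem resA_p : resA h ≫ d.p = c.p ≫ resC h := by
  rw [resA, resC, p, p, Scheme.Hom.map_appLE, Scheme.Hom.appLE_map]

theorem resB_q : resB h ≫ d.q = c.q ≫ resC h := by
  rw [resB, resC, q, q, Scheme.Hom.map_appLE, Scheme.Hom.appLE_map]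

theorem res_compat (x : c.ring) : d.q (resB h (c.f x)) = d.p (resA h (c.g x)) := by
  have h₁ := congr($(resB_q h) (c.f x))
  have h₂ := congr($(resA_p h) (c.g x))
  rw [CommRingCat.comp_apply, CommRingCat.comp_apply] at h₁ h₂
  rw [h₁, h₂, c.w]

/-- The restriction map between the rings of charts. -/
noncomputable def res : c.ring ⟶ d.ring :=
  CommRingCat.ofHom ((((resB h).hom.comp c.f.hom).prod ((resA h).hom.comp c.g.hom)).codRestrict d.sub
    (res_compat h))

@[simp] theorem f_res (x : c.ring) : d.f (res h x) = resB h (c.f x) := rfl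

@[simp] theorem g_res (x : c.ring) : d.g (res h x) = resA h (c.g x) := rfl

theorem res_refl (c : Chart i j) : res (le_refl c) = 𝟙 c.ring := by
  refine CommRingCat.hom_ext (RingHom.ext fun x => c.ext ?_ ?_)
  · show resB (le_refl c) (c.f x) = c.f x
    simp [resB]
  · show resA (le_refl c) (c.g x) = c.g x
    simp [resA]

theorem res_comp {e : Chart i j} (h' : e ≤ d) : res h ≫ res h' = res (h'.trans h) := by
  refine CommRingCat.hom_ext (RingHom.ext fun x => e.ext ?_ ?_)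
  · show resB h' (resB h (c.f x)) = resB (h'.trans h) (c.f x)
    rw [resB, resB, resB, ← CommRingCat.comp_apply, ← Functor.map_comp]
    rfl
  · show resA h' (resA h (c.g x)) = resA (h'.trans h) (c.g x)
    rw [resA, resA, resA, ← CommRingCat.comp_apply, ← Functor.map_comp]
    rfl

/-- The transition map. -/
noncomputable def φ : d.W ⟶ c.W := Spec.map (res h)

theorem φ_refl (c : Chart i j) : φ (le_refl c) = 𝟙 c.W := by
  rw [φ, res_refl, Spec.map_id]

theorem φ_comp {e : Chart i j} (h' : e ≤ d) : φ h' ≫ φ h = φ (h'.trans h) := by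
  simp only [φ, ← res_comp h h', Spec.map_comp]

theorem g_res_hom : res h ≫ d.g = c.g ≫ resA h := by
  refine CommRingCat.hom_ext (RingHom.ext fun x => ?_)
  rfl

theorem f_res_hom : res h ≫ d.f = c.f ≫ resB h := by
  refine CommRingCat.hom_ext (RingHom.ext fun x => ?_)
  rfl

theorem α_φ : d.α ≫ φ h = Spec.map (resA h) ≫ c.α := by
  rw [α, φ, α, ← Spec.map_comp, g_res_hom, Spec.map_comp]

theorem β_φ : d.β ≫ φ h = Spec.map (resB h) ≫ c.β := by
  rw [β, φ, β, ← Spec.map_comp, f_res_hom, Spec.map_comp]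

theorem resA_fromSpec : Spec.map (resA h) ≫ c.hU.fromSpec = d.hU.fromSpec := c.hU.map_fromSpec d.hU _

theorem resB_fromSpec : Spec.map (resB h) ≫ c.hV.fromSpec = d.hV.fromSpec := c.hV.map_fromSpec d.hV _

variable [IsClosedImmersion i]

theorem good_φ (w : d.W) : c.Good d.U d.V (φ h w) := by
  rcases d.surj w with ⟨u, rfl⟩ | ⟨v, rfl⟩
  · have : φ h (d.α u) = c.α (Spec.map (resA h) u) := congr($(α_φ h) u)
    rw [this]
    refine good_of_α d.trace ?_
    have : c.hU.fromSpec (Spec.map (resA h) u) = d.hU.fromSpec u := congr($(resA_fromSpec h) u)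
    rw [this]
    exact d.hU.range_fromSpec.subset ⟨u, rfl⟩
  · have : φ h (d.β v) = c.β (Spec.map (resB h) v) := congr($(β_φ h) v)
    rw [this]
    refine good_of_β d.trace ?_
    have : c.hV.fromSpec (Spec.map (resB h) v) = d.hV.fromSpec v := congr($(resB_fromSpec h) v)
    rw [this]
    exact d.hV.range_fromSpec.subset ⟨v, rfl⟩

theorem isUnit_pair {b : Γ(Y, c.V)} {a : Γ(X, c.U)} (x : c.ring) (hb : c.f x = b) (ha : c.g x = a)
    (hub : IsUnit b) (hua : IsUnit a) : IsUnit x := by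
  obtain ⟨b', hb'⟩ := hub.exists_right_inv
  obtain ⟨a', ha'⟩ := hua.exists_right_inv
  have hqb : c.q b * c.q b' = 1 := by rw [← map_mul, hb', map_one]
  have hpa : c.p a * c.p a' = 1 := by rw [← map_mul, ha', map_one]
  have hba : c.q b = c.p a := by rw [← hb, ← ha, c.w]
  have hu : IsUnit (c.q b) := hub.map c.q.hom
  refine isUnit_iff_exists_inv.mpr ⟨c.pair b' a' (hu.mul_left_cancel ?_), c.ext ?_ ?_⟩
  · rw [hqb, hba, hpa]
  · rw [map_mul, f_pair, hb, hb', map_one]
  · rw [map_mul, g_pair, ha, ha', map_one]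

theorem res_away_surj (s : c.ring) (hU : d.U = X.basicOpen (c.g s)) (hV : d.V = Y.basicOpen (c.f s))
    (z : d.ring) : ∃ (n : ℕ) (x : c.ring), z * res h s ^ n = res h x := by
  letI := (X.presheaf.map (homOfLE (le_U h)).op).hom.toAlgebra
  letI := (Y.presheaf.map (homOfLE (le_V h)).op).hom.toAlgebra
  letI := (Z.presheaf.map (homOfLE (Scheme.Hom.preimage_mono i (le_U h))).op).hom.toAlgebra
  haveI := c.hU.isLocalization_of_eq_basicOpen (c.g s) (homOfLE (le_U h)) hU
  haveI := c.hV.isLocalization_of_eq_basicOpen (c.f s) (homOfLE (le_V h)) hV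
  haveI := c.isAffineOpen_trace.isLocalization_of_eq_basicOpen (c.p (c.g s))
    (homOfLE (Scheme.Hom.preimage_mono i (le_U h))) (by
      rw [p, Scheme.basicOpen_appLE, hU]
      exact (inf_eq_right.mpr (Scheme.Hom.preimage_mono i (X.basicOpen_le _))).symm)
  obtain ⟨m, b, hb⟩ := IsLocalization.Away.surj (c.f s) (d.f z)
  obtain ⟨n, a, ha⟩ := IsLocalization.Away.surj (c.g s) (d.g z)
  change d.f z * resB h (c.f s) ^ m = resB h b at hb
  change d.g z * resA h (c.g s) ^ n = resA h a at ha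
  have hps : resC h (c.q (c.f s)) = resC h (c.p (c.g s)) := by rw [c.w]
  have e : resC h (c.q (b * c.f s ^ n)) = resC h (c.p (a * c.g s ^ m)) := by
    have e₁ := congr($(resB_q h) b)
    have e₂ := congr($(resA_p h) a)
    have e₃ := congr($(resB_q h) (c.f s))
    have e₄ := congr($(resA_p h) (c.g s))
    rw [CommRingCat.comp_apply, CommRingCat.comp_apply] at e₁ e₂ e₃ e₄
    rw [map_mul, map_mul, map_mul, map_mul, map_pow, map_pow, map_pow, map_pow, ← e₁, ← e₂, ← hb, ← ha,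
      map_mul, map_mul, map_pow, map_pow, e₃, e₄, hps, d.w]
    ring
  obtain ⟨⟨_, k, rfl⟩, hk⟩ := (IsLocalization.eq_iff_exists (.powers (c.p (c.g s))) Γ(Z, i ⁻¹ᵁ d.U)).mp e
  refine ⟨m + n + k, c.pair (b * c.f s ^ n * c.f s ^ k) (a * c.g s ^ m * c.g s ^ k) ?_, d.ext ?_ ?_⟩
  · rw [map_mul c.q.hom (b * _), map_mul c.p.hom (a * _), map_pow, map_pow, c.w, mul_comm _ (c.p (c.g s) ^ k),
      mul_comm _ (c.p (c.g s) ^ k)]
    exact hk
  · rw [map_mul, map_pow, f_res, f_res, f_pair, map_mul, map_mul, map_pow, map_pow, ← hb]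
    ring
  · rw [map_mul, map_pow, g_res, g_res, g_pair, map_mul, map_mul, map_pow, map_pow, ← ha]
    ring

theorem isLocalization (s : c.ring) (hU : d.U = X.basicOpen (c.g s)) (hV : d.V = Y.basicOpen (c.f s)) :
    @IsLocalization.Away c.ring _ s d.ring _ (res h).hom.toAlgebra := by
  letI := (res h).hom.toAlgebra
  letI := (X.presheaf.map (homOfLE (le_U h)).op).hom.toAlgebra
  letI := (Y.presheaf.map (homOfLE (le_V h)).op).hom.toAlgebra
  haveI := c.hU.isLocalization_of_eq_basicOpen (c.g s) (homOfLE (le_U h)) hU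
  haveI := c.hV.isLocalization_of_eq_basicOpen (c.f s) (homOfLE (le_V h)) hV
  refine IsLocalization.Away.mk s ?_ (fun z => ?_) fun x y hxy => ?_
  · exact isUnit_pair (res h s) (f_res h s) (g_res h s)
      (IsLocalization.Away.algebraMap_isUnit (S := Γ(Y, d.V)) (c.f s))
      (IsLocalization.Away.algebraMap_isUnit (S := Γ(X, d.U)) (c.g s))
  · exact res_away_surj h s hU hV z
  · have h₁ : algebraMap Γ(Y, c.V) Γ(Y, d.V) (c.f x) = algebraMap Γ(Y, c.V) Γ(Y, d.V) (c.f y) :=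
      (f_res h x).symm.trans ((congrArg d.f hxy).trans (f_res h y))
    have h₂ : algebraMap Γ(X, c.U) Γ(X, d.U) (c.g x) = algebraMap Γ(X, c.U) Γ(X, d.U) (c.g y) :=
      (g_res h x).symm.trans ((congrArg d.g hxy).trans (g_res h y))
    obtain ⟨⟨_, m, rfl⟩, hm⟩ := (IsLocalization.eq_iff_exists (.powers (c.f s)) _).mp h₁
    obtain ⟨⟨_, n, rfl⟩, hn⟩ := (IsLocalization.eq_iff_exists (.powers (c.g s)) _).mp h₂
    refine ⟨m + n, c.ext ?_ ?_⟩
    · simp only [map_mul, map_pow, pow_add, mul_right_comm _ (c.f s ^ n)]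
      exact congrArg (· * c.f s ^ n) hm
    · simp only [map_mul, map_pow, pow_add, mul_assoc]
      exact congrArg (c.g s ^ m * ·) hn

theorem range_φ_basic (s : c.ring) (hU : d.U = X.basicOpen (c.g s)) (hV : d.V = Y.basicOpen (c.f s)) :
    Set.range (φ h) = (PrimeSpectrum.basicOpen s : Set (PrimeSpectrum c.ring)) := by
  letI := (res h).hom.toAlgebra
  haveI := isLocalization h s hU hV
  exact PrimeSpectrum.localization_away_comap_range d.ring s

theorem isOpenImmersion_basic (s : c.ring) (hU : d.U = X.basicOpen (c.g s)) (hV : d.V = Y.basicOpen (c.f s)) :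
    IsOpenImmersion (φ h) := by
  letI := (res h).hom.toAlgebra
  haveI := isLocalization h s hU hV
  exact IsOpenImmersion.of_isLocalization (R := c.ring) (S := d.ring) s

/-- Every point all of whose preimages lie in a smaller chart lies in a common basic sub-chart. -/
theorem exists_basic {x : c.W} {OX : X.Opens} {OY : Y.Opens} (hO : i ⁻¹ᵁ OX = j ⁻¹ᵁ OY)
    (hx : c.Good OX OY x) :
    ∃ s : c.ring, (c.basic s).U ≤ OX ∧ (c.basic s).V ≤ OY ∧ x ∈ Set.range (φ (c.basic_le s)) := by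
  obtain ⟨s, hs, hX, hY⟩ := exists_s hO hx
  refine ⟨s, hX, hY, ?_⟩
  rw [range_φ_basic _ s rfl rfl]
  exact hs

theorem range_φ : Set.range (φ h) = {x | c.Good d.U d.V x} := by
  refine Set.Subset.antisymm ?_ fun x hx => ?_
  · rintro _ ⟨w, rfl⟩
    exact good_φ h w
  obtain ⟨s, hU, hV, w, hw⟩ := exists_basic d.trace hx
  have h' : c.basic s ≤ d := ⟨hU, hV⟩
  exact ⟨φ h' w, (congr($(φ_comp h h') w)).trans hw⟩

theorem exists_local (w : d.W) :
    ∃ (e : Chart i j) (h₁ : e ≤ d) (h₂ : e ≤ c), IsOpenImmersion (φ h₁) ∧ IsOpenImmersion (φ h₂) ∧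
      φ h ⁻¹' Set.range (φ h₂) = Set.range (φ h₁) ∧ w ∈ Set.range (φ h₁) := by
  obtain ⟨s, hX, hY, hw⟩ := exists_basic d.trace (good_φ h w)
  have hU : (c.basic s).U = X.basicOpen (d.g (res h s)) := by
    rw [g_res, resA, X.basicOpen_res]
    exact (inf_eq_right.mpr hX).symm
  have hV : (c.basic s).V = Y.basicOpen (d.f (res h s)) := by
    rw [f_res, resB, Y.basicOpen_res]
    exact (inf_eq_right.mpr hY).symm
  have h₁ : c.basic s ≤ d := ⟨hX, hY⟩
  have hpre : φ h ⁻¹' Set.range (φ (c.basic_le s)) = Set.range (φ h₁) := by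
    rw [range_φ_basic _ s rfl rfl, range_φ_basic h₁ (res h s) hU hV]
    rfl
  exact ⟨c.basic s, h₁, c.basic_le s, isOpenImmersion_basic h₁ (res h s) hU hV,
    isOpenImmersion_basic _ s rfl rfl, hpre, hpre.subset hw⟩

theorem φ_injective : Function.Injective (φ h) := by
  intro w₁ w₂ hw
  obtain ⟨e, h₁, h₂, ho₁, ho₂, hpre, hw₁⟩ := exists_local h w₁
  have hw₂ : w₂ ∈ φ h ⁻¹' Set.range (φ h₂) := by
    have : φ h w₁ ∈ Set.range (φ h₂) := hpre.superset hw₁
    exact (congrArg (· ∈ Set.range (φ h₂)) hw).mp this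
  obtain ⟨e₁, rfl⟩ := hw₁
  obtain ⟨e₂, rfl⟩ := hpre.subset hw₂
  have he : φ h₂ e₁ = φ h₂ e₂ := by
    have := φ_comp h h₁
    exact (congr($this e₁)).symm.trans (hw.trans (congr($this e₂)))
  rw [(φ h₂).isOpenEmbedding.injective he]

theorem φ_isOpenMap : IsOpenMap (φ h) := by
  intro O hO
  rw [isOpen_iff_forall_mem_open]
  rintro _ ⟨w, hw, rfl⟩
  obtain ⟨e, h₁, h₂, ho₁, ho₂, -, z, rfl⟩ := exists_local h w
  refine ⟨φ h₂ '' (φ h₁ ⁻¹' O), ?_, (φ h₂).isOpenEmbedding.isOpenMap _ (hO.preimage (φ h₁).continuous),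
    ⟨z, hw, (congr($(φ_comp h h₁) z)).symm⟩⟩
  rintro _ ⟨y, hy, rfl⟩
  exact ⟨φ h₁ y, hy, congr($(φ_comp h h₁) y)⟩

theorem isOpenImmersion_φ : IsOpenImmersion (φ h) := by
  have hemb : Topology.IsOpenEmbedding (φ h) :=
    Topology.IsOpenEmbedding.of_continuous_injective_isOpenMap (φ h).continuous (φ_injective h) (φ_isOpenMap h)
  haveI : ∀ w, IsIso ((φ h).stalkMap w) := fun w => by
    obtain ⟨e, h₁, h₂, ho₁, ho₂, -, z, rfl⟩ := exists_local h w
    have hcomp : IsIso ((φ h₁ ≫ φ h).stalkMap z) := by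
      have : IsOpenImmersion (φ h₁ ≫ φ h) := (φ_comp h h₁).symm ▸ ho₂
      infer_instance
    rw [Scheme.Hom.stalkMap_comp] at hcomp
    exact @IsIso.of_isIso_comp_right _ _ _ _ _ ((φ h).stalkMap (φ h₁ z)) ((φ h₁).stalkMap z) inferInstance hcomp
  exact IsOpenImmersion.of_isIso_stalkMap _ hemb

/-- A common sub-chart through a point lying in two charts. -/
theorem exists_inf {k a b : Chart i j} {x : k.W}
    (hxa : k.Good a.U a.V x) (hxb : k.Good b.U b.V x) :
    ∃ l : Chart i j, l ≤ a ∧ l ≤ b ∧ ∃ hl : l ≤ k, x ∈ Set.range (φ hl) := by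
  have hO : i ⁻¹ᵁ (a.U ⊓ b.U) = j ⁻¹ᵁ (a.V ⊓ b.V) := by
    rw [Scheme.Hom.preimage_inf, Scheme.Hom.preimage_inf, a.trace, b.trace]
  obtain ⟨s, hX, hY, hxs⟩ := exists_basic hO
    (⟨fun u hu => ⟨hxa.left u hu, hxb.left u hu⟩, fun v hv => ⟨hxa.right v hv, hxb.right v hv⟩⟩ :
      k.Good (a.U ⊓ b.U) (a.V ⊓ b.V) x)
  exact ⟨k.basic s, ⟨hX.trans inf_le_left, hY.trans inf_le_left⟩,
    ⟨hX.trans inf_le_right, hY.trans inf_le_right⟩, k.basic_le s, hxs⟩

end Chart

end GrothLib.Pushout6
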