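import Groth.Agent.Lib.Pushout6.Transfer

/-!
# A square that is locally the spectrum of a fibre square of rings is a pushout
-/

universe u

open CategoryTheory Limits AlgebraicGeometry Opposite TopologicalSpace

namespace GrothLib.Pushout6

variable {X Y Z P : Scheme.{u}}

/-- Local presentation of a square by a fibre square of rings around a point. -/
structure LocalData (i : Z ⟶ X) (j : Z ⟶ Y) (a : X ⟶ P) (b : Y ⟶ P) (x : P) where
  P₀ : CommRingCat.{u}
  B₀ : CommRingCat.{u}
  A₀ : CommRingCat.{u}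
  C₀ : CommRingCat.{u}
  f₀ : P₀ ⟶ B₀
  g₀ : P₀ ⟶ A₀
  q₀ : B₀ ⟶ C₀
  p₀ : A₀ ⟶ C₀
  sq : Misc6.FibreSquare f₀.hom g₀.hom q₀.hom p₀.hom
  u : Spec A₀ ⟶ X
  v : Spec B₀ ⟶ Y
  z : Spec C₀ ⟶ Z
  w : Spec P₀ ⟶ P
  openU : IsOpenImmersion u
  openV : IsOpenImmersion v
  openZ : IsOpenImmersion z
  openW : IsOpenImmersion w
  ha : u ≫ a = Spec.map g₀ ≫ w
  hb : v ≫ b = Spec.map f₀ ≫ w
  hi : z ≫ i = Spec.map p₀ ≫ u
  hj : z ≫ j = Spec.map q₀ ≫ v
  hu : a ⁻¹' Set.range w = Set.range u
  hv : b ⁻¹' Set.range w = Set.range v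
  hz : i ⁻¹' Set.range u = Set.range z
  hx : x ∈ Set.range w

variable {i : Z ⟶ X} {j : Z ⟶ Y} {a : X ⟶ P} {b : Y ⟶ P}

attribute [instance] LocalData.openU LocalData.openV LocalData.openZ LocalData.openW

namespace LocalData

variable {x : P} (d : LocalData i j a b x)

/-- The image of the local presentation. -/
noncomputable abbrev opens : P.Opens := d.w.opensRange

variable [IsAffineHom a] [IsAffineHom b]

/-- The chart of a local presentation. -/
noncomputable def chart (hw : i ≫ a = j ≫ b) : Chart i j where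
  U := a ⁻¹ᵁ d.opens
  V := b ⁻¹ᵁ d.opens
  hU := (isAffineOpen_opensRange d.w).preimage a
  hV := (isAffineOpen_opensRange d.w).preimage b
  trace := by rw [← Scheme.Hom.comp_preimage, hw, Scheme.Hom.comp_preimage]

end LocalData

theorem isPushout_of_local [IsClosedImmersion i] [IsAffineHom a] [IsAffineHom b] (hw : i ≫ a = j ≫ b)
    (h : ∀ x : P, Nonempty (LocalData i j a b x)) : IsPushout i j a b := by
  let d := fun x => (h x).some
  have hC : Covered i j := fun y => ⟨(d (b y)).chart hw, (d (b y)).hx⟩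
  let e := (isPushout hC).desc a b hw
  have he₁ : inl hC ≫ e = a := (isPushout hC).inl_desc _ _ _
  have he₂ : inr hC ≫ e = b := (isPushout hC).inr_desc _ _ _
  suffices IsIso e from
    (isPushout hC).of_iso (Iso.refl _) (Iso.refl _) (Iso.refl _) (asIso e) (by simp) (by simp)
      (by simp [he₁]) (by simp [he₂])
  let 𝒰 : P.OpenCover := Scheme.Cover.mkOfCovers (P := @IsOpenImmersion) P (fun x => Spec (d x).P₀)
    (fun x => (d x).w) (fun x => ⟨x, (d x).hx⟩) (fun _ => inferInstance)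
  refine (IsZariskiLocalAtTarget.iff_of_openCover (P := MorphismProperty.isomorphisms Scheme) (f := e) 𝒰).mpr
    fun x => ?_
  let D := d x
  let c : Chart i j := D.chart hw
  have hrU : Set.range c.hU.fromSpec = Set.range D.u := c.hU.range_fromSpec.trans D.hu
  have hrV : Set.range c.hV.fromSpec = Set.range D.v := c.hV.range_fromSpec.trans D.hv
  have hrZ : Set.range c.isAffineOpen_trace.fromSpec = Set.range D.z := by
    rw [IsAffineOpen.range_fromSpec, ← D.hz, ← hrU, IsAffineOpen.range_fromSpec]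
    rfl
  let φX := IsOpenImmersion.isoOfRangeEq c.hU.fromSpec D.u hrU
  let φY := IsOpenImmersion.isoOfRangeEq c.hV.fromSpec D.v hrV
  let φZ := IsOpenImmersion.isoOfRangeEq c.isAffineOpen_trace.fromSpec D.z hrZ
  have hXu : φX.hom ≫ D.u = c.hU.fromSpec := IsOpenImmersion.isoOfRangeEq_hom_fac _ _ _
  have hYv : φY.hom ≫ D.v = c.hV.fromSpec := IsOpenImmersion.isoOfRangeEq_hom_fac _ _ _
  have hZz : φZ.hom ≫ D.z = c.isAffineOpen_trace.fromSpec := IsOpenImmersion.isoOfRangeEq_hom_fac _ _ _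
  have hp : φZ.hom ≫ Spec.map D.p₀ = Spec.map c.p ≫ φX.hom := by
    rw [← cancel_mono D.u, Category.assoc, Category.assoc, ← D.hi, ← Category.assoc, hZz, hXu, Chart.p,
      IsAffineOpen.SpecMap_appLE_fromSpec i c.hU c.isAffineOpen_trace]
  have hq : φZ.hom ≫ Spec.map D.q₀ = Spec.map c.q ≫ φY.hom := by
    rw [← cancel_mono D.v, Category.assoc, Category.assoc, ← D.hj, ← Category.assoc, hZz, hYv, Chart.q,
      IsAffineOpen.SpecMap_appLE_fromSpec j c.hV c.isAffineOpen_trace]
  have hps : IsPushout (Spec.map c.p) (Spec.map c.q) (φX.hom ≫ Spec.map D.g₀) (φY.hom ≫ Spec.map D.f₀) :=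
    (Misc6.isPushout_spec D.sq).of_iso φZ.symm φX.symm φY.symm (Iso.refl _)
      (by rw [Iso.symm_hom, Iso.symm_hom, Iso.comp_inv_eq, Category.assoc, ← hp, Iso.inv_hom_id_assoc])
      (by rw [Iso.symm_hom, Iso.symm_hom, Iso.comp_inv_eq, Category.assoc, ← hq, Iso.inv_hom_id_assoc])
      (by simp) (by simp)
  let m := c.isPushout.isoIsPushout _ _ hps
  have hm₁ : c.α ≫ m.hom = φX.hom ≫ Spec.map D.g₀ := c.isPushout.inl_isoIsPushout_hom _ _ hps
  have hm₂ : c.β ≫ m.hom = φY.hom ≫ Spec.map D.f₀ := c.isPushout.inr_isoIsPushout_hom _ _ hps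
  have hfac : m.hom ≫ D.w = chartι c ≫ e := by
    refine c.isPushout.hom_ext ?_ ?_
    · rw [reassoc_of% hm₁, ← D.ha, reassoc_of% hXu, ← Category.assoc c.α, ← fromSpec_inl hC, Category.assoc, he₁]
    · rw [reassoc_of% hm₂, ← D.hb, reassoc_of% hYv, ← Category.assoc c.β, ← fromSpec_inr hC, Category.assoc, he₂]
  have hpre : e ⁻¹ᵁ D.w.opensRange = (chartι c).opensRange := by
    ext p
    rcases exists_inl_or_inr hC p with ⟨u, rfl⟩ | ⟨v, rfl⟩
    · show e (inl hC u) ∈ D.w.opensRange ↔ u ∈ inl hC ⁻¹ᵁ (chartι c).opensRange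
      rw [preimage_inl, show e (inl hC u) = a u from congr($he₁ u)]
      rfl
    · show e (inr hC v) ∈ D.w.opensRange ↔ v ∈ inr hC ⁻¹ᵁ (chartι c).opensRange
      rw [preimage_inr, show e (inr hC v) = b v from congr($he₂ v)]
      rfl
  have hpb : IsPullback m.hom (chartι c) D.w e := IsOpenImmersion.isPullback _ _ _ _ hfac.symm hpre
  refine ((MorphismProperty.isomorphisms Scheme).cancel_left_of_respectsIso hpb.flip.isoPullback.hom _).mp ?_
  change MorphismProperty.isomorphisms Scheme (hpb.flip.isoPullback.hom ≫ pullback.snd e D.w)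
  rw [IsPullback.isoPullback_hom_snd]
  exact inferInstanceAs (IsIso m.hom)

end GrothLib.Pushout6
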